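import Groth.Agent.H23.SeesawGlobal
import Groth.Agent.InvUfdLib.Trivial
import Groth.Agent.InvUfdLib.Semilocal
import Groth.Agent.InvX.GenLocusPull
import Groth.Agent.QCoh.PullbackBC
import Groth.Agent.H23.PullPush
import Mathlib.RingTheory.UniqueFactorizationDomain.Kaplansky
import Mathlib.RingTheory.Localization.BaseChange
import Mathlib.RingTheory.TensorProduct.MvPolynomial
import Mathlib.AlgebraicGeometry.Pullbacks

/-!
# An invertible module on the product of an open of affine space with an affine variety is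
trivial over a dense open of the second factor
-/

set_option autoImplicit false
set_option linter.style.haveILetI false
set_option maxSynthPendingDepth 5

universe u

open CategoryTheory CategoryTheory.Limits AlgebraicGeometry TopologicalSpace Opposite TensorProduct

namespace Groth.Agent.PicProd26

open Groth.Agent.AModX Groth.Agent.InvX Groth.Agent.H23 Groth.Agent.H23.TrivBasic

/-- A localisation of a factorial domain is factorial. -/
theorem ufd_of_isLocalization (R : Type u) [CommRing R] [IsDomain R] [UniqueFactorizationMonoid R] (M : Submonoid R)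
    (hM : M ≤ nonZeroDivisors R) (T : Type u) [CommRing T] [IsDomain T] [Algebra R T] [IsLocalization M T] :
    UniqueFactorizationMonoid T := by
  rw [UniqueFactorizationMonoid.iff_exists_prime_mem_of_isPrime]
  intro I hI hIp
  haveI := hIp
  have hne : I.comap (algebraMap R T) ≠ ⊥ := fun h => hI (by
    rw [← IsLocalization.map_under M T I]
    show Ideal.map (algebraMap R T) (I.comap (algebraMap R T)) = ⊥
    rw [h, Ideal.map_bot])
  obtain ⟨x, hxI, hx⟩ := (inferInstance : (I.comap (algebraMap R T)).IsPrime).exists_mem_prime_of_ne_bot hne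
  refine ⟨algebraMap R T x, hxI, ?_⟩
  haveI : (Ideal.span {x}).IsPrime := (Ideal.span_singleton_prime hx.ne_zero).2 hx
  have hdisj : Disjoint (M : Set R) (Ideal.span {x} : Ideal R) := by
    refine Disjoint.mono_right (show ((Ideal.span {x} : Ideal R) : Set R) ⊆ (I.comap (algebraMap R T) : Set R) from
      (Ideal.span_singleton_le_iff_mem _).2 hxI) ?_
    exact ((IsLocalization.isPrime_iff_isPrime_disjoint M T I).1 hIp).2
  have hp : (Ideal.map (algebraMap R T) (Ideal.span {x})).IsPrime :=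
    IsLocalization.isPrime_of_isPrime_disjoint M T _ inferInstance hdisj
  rw [Ideal.map_span, Set.image_singleton] at hp
  exact (Ideal.span_singleton_prime fun h => hx.ne_zero (IsLocalization.injective T hM (h.trans (map_zero _).symm))).1 hp

/-- An invertible module over the spectrum of a factorial domain is trivial. -/
theorem triv_of_ufd (R : CommRingCat.{u}) [IsDomain R] [UniqueFactorizationMonoid R] (L : (Spec R).Modules)
    (hL : PicF.IsInvertible L) : Triv L := by
  haveI : IsIso (⊤ : (Spec R).Opens).ι := inferInstanceAs (IsIso (Scheme.topIso (Spec R)).hom)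
  refine triv_of_isIso (⊤ : (Spec R).Opens).ι ?_
  exact InvUfdLib.nonempty_iso ⊤ _ (PicLoc.isInvertible_pullback _ hL)

/-- A module trivial on a localisation has a frame on a basic open. -/
theorem exists_basicOpen_frame {R R' : Type u} [CommRing R] [CommRing R'] [Algebra R R'] (S : Submonoid R)
    [IsLocalization S R'] (M : (Spec (CommRingCat.of R)).Modules) (hM : PicF.IsInvertible M)
    (h : Triv ((Scheme.Modules.pullback (Spec.map (CommRingCat.ofHom (algebraMap R R')))).obj M)) :
    ∃ s ∈ S, ∃ e : Γ(M, PrimeSpectrum.basicOpen s), IsFrame e := by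
  classical
  let X := Spec (CommRingCat.of R)
  let X' := Spec (CommRingCat.of R')
  let g : X' ⟶ X := Spec.map (CommRingCat.ofHom (algebraMap R R'))
  let N := (Scheme.Modules.pullback g).obj M
  obtain ⟨e', he'⟩ := h.exists_frame
  let φ : R →+* Γ(X, ⊤) := (Scheme.ΓSpecIso (CommRingCat.of R)).inv.hom
  let φ' : R' →+* Γ(X', ⊤) := (Scheme.ΓSpecIso (CommRingCat.of R')).inv.hom
  have hle : (⊤ : X'.Opens) ≤ g ⁻¹ᵁ ⊤ := le_top
  let G : Γ(X, ⊤) →+* Γ(X', ⊤) := (g.appLE ⊤ ⊤ hle).hom
  have hG : ∀ r, G (φ r) = φ' (algebraMap R R' r) := fun r => by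
    have h0 : (g.appLE ⊤ ⊤ hle) = g.appTop := (Scheme.Hom.app_eq_appLE g).symm
    show (g.appLE ⊤ ⊤ hle).hom _ = _
    rw [h0]
    exact (ConcreteCategory.congr_hom (Scheme.ΓSpecIso_inv_naturality (CommRingCat.ofHom (algebraMap R R'))) r).symm
  have hφ' : Function.Surjective φ' :=
    (ConcreteCategory.bijective_of_isIso (Scheme.ΓSpecIso (CommRingCat.of R')).inv).2
  have hφ : Function.Surjective φ :=
    (ConcreteCategory.bijective_of_isIso (Scheme.ΓSpecIso (CommRingCat.of R)).inv).2
  letI : Algebra Γ(X, ⊤) Γ(X', ⊤) := G.toAlgebra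
  letI : Module Γ(X, ⊤) Γ(N, ⊤) := Module.compHom _ G
  haveI : IsScalarTower Γ(X, ⊤) Γ(X', ⊤) Γ(N, ⊤) := ⟨fun a b c => mul_smul (G a) b c⟩
  let l : Γ(M, ⊤) →ₗ[Γ(X, ⊤)] Γ(N, ⊤) :=
    { toFun := fun m => QCoh.pullSec g M hle m
      map_add' := QCoh.pullSec_add g M hle
      map_smul' := fun r m => QCoh.pullSec_smul g M hle r m }
  have hbc : IsBaseChange Γ(X', ⊤) l := QCoh.isBaseChange_pullback (isAffineOpen_top X) g (isAffineOpen_top X')
    (QCoh.isQCoh_of_isFinLocFree (H23.PullPush.isFinLocFree_of_isInvertible hM)) hle (fun _ => rfl) l (fun _ => rfl)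
  obtain ⟨c, hcS, m, hm⟩ : ∃ c ∈ S, ∃ m : Γ(M, ⊤), G (φ c) • (show Γ(N, ⊤) from e') = l m := by
    refine hbc.inductionOn (e' : Γ(N, ⊤)) (fun z => ∃ c ∈ S, ∃ m : Γ(M, ⊤), G (φ c) • z = l m) ?_ (fun m => ?_) ?_ ?_
    · exact ⟨1, one_mem S, 0, by rw [smul_zero, map_zero]⟩
    · exact ⟨1, one_mem S, m, by rw [map_one, map_one, one_smul]⟩
    · rintro s z ⟨c, hc, m, e⟩
      obtain ⟨s', rfl⟩ := hφ' s
      obtain ⟨⟨b, t⟩, hbt⟩ := IsLocalization.surj S s'
      refine ⟨t * c, mul_mem t.2 hc, φ b • m, ?_⟩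
      rw [map_smul, ← e, map_mul, map_mul]
      show (G (φ t) * G (φ c)) • φ' s' • z = G (φ b) • G (φ c) • z
      rw [← mul_smul, ← mul_smul, mul_right_comm, hG t, ← map_mul, mul_comm (algebraMap R R' t) s', hbt, hG b]
    · rintro z z' ⟨c, hc, m, e⟩ ⟨c', hc', m', e'⟩
      refine ⟨c * c', mul_mem hc hc', φ c' • m + φ c • m', ?_⟩
      rw [map_add, map_smul, map_smul, ← e, ← e', smul_add, map_mul, map_mul]
      show (G (φ c) * G (φ c')) • z + (G (φ c) * G (φ c')) • z' = G (φ c') • G (φ c) • z + G (φ c) • G (φ c') • z'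
      rw [← mul_smul, ← mul_smul, mul_comm (G (φ c')) (G (φ c))]
  have hu : IsUnit (G (φ c)) := by
    rw [hG]; exact (IsLocalization.map_units R' ⟨c, hcS⟩).map φ'
  have hpm : IsFrame (show Γ(N, ⊤) from pullElt g m) := by
    have h1 : IsFrame (l m) := hm ▸ he'.isUnit_smul hu
    have h2 : l m = (show Γ(N, ⊤) from pullElt g m) := res_self (M := N) (pullElt g m)
    rwa [h2] at h1
  -- the denominators
  let O : Set (PrimeSpectrum R) := (locus m).carrier
  have hO : IsOpen O := (locus m).isOpen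
  let I := PrimeSpectrum.vanishingIdeal Oᶜ
  obtain ⟨s, hsI, hsS⟩ : ∃ s, s ∈ I ∧ s ∈ S := by
    by_contra hne
    push Not at hne
    obtain ⟨P, hP, hIP, hPS⟩ := Ideal.exists_le_prime_disjoint I S
      (Set.disjoint_left.2 fun s hs hs' => hne s hs hs')
    have hrange : (⟨P, hP⟩ : PrimeSpectrum R) ∈ Set.range (PrimeSpectrum.comap (algebraMap R R')) := by
      rw [PrimeSpectrum.localization_comap_range R' S]
      exact hPS.symm
    obtain ⟨y, hy⟩ := hrange
    have h3 : (⟨P, hP⟩ : PrimeSpectrum R) ∈ O := hy ▸ mem_locus_of_pullElt hM g m hpm y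
    have h4 : (⟨P, hP⟩ : PrimeSpectrum R) ∈ closure Oᶜ :=
      (PrimeSpectrum.zeroLocus_vanishingIdeal_eq_closure Oᶜ).subset hIP
    rw [hO.isClosed_compl.closure_eq] at h4
    exact h4 h3
  refine ⟨s, hsS, AModX.res M le_top m, isFrame_res_of_le_locus fun y hy => ?_⟩
  by_contra hy'
  exact hy ((PrimeSpectrum.mem_vanishingIdeal _ _).1 hsI y hy')

/-- The product of a basic open of affine space with an integral affine scheme: a dense open of the second factor. -/
theorem exists_generic_triv {k : Type u} [Field k] {σ : Type u} (h : MvPolynomial σ k) (hh : h ≠ 0)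
    (C : Type u) [CommRing C] [IsDomain C] [Algebra k C]
    (M : (Spec (CommRingCat.of (C ⊗[k] Localization.Away h))).Modules) (hM : PicF.IsInvertible M) :
    ∃ c : C, c ≠ 0 ∧ ∃ e : Γ(M, PrimeSpectrum.basicOpen (c ⊗ₜ[k] (1 : Localization.Away h))), IsFrame e := by
  classical
  let B := Localization.Away h
  let K := FractionRing C
  let A₀ := K ⊗[k] MvPolynomial σ k
  haveI : IsDomain A₀ := (MvPolynomial.algebraTensorAlgEquiv (σ := σ) k K).toMulEquiv.isDomain
  haveI : UniqueFactorizationMonoid A₀ :=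
    (MvPolynomial.algebraTensorAlgEquiv (σ := σ) k K).toMulEquiv.symm.uniqueFactorizationMonoid inferInstance
  have h0 : (1 : K) ⊗ₜ[k] h ≠ 0 := fun e => hh
    (Algebra.TensorProduct.includeRight_injective (R := k) (A := K) (B := MvPolynomial σ k) (algebraMap k K).injective
      (e.trans (map_zero _).symm))
  have hle : Submonoid.powers ((1 : K) ⊗ₜ[k] h) ≤ nonZeroDivisors A₀ :=
    Submonoid.powers_le.2 (mem_nonZeroDivisors_of_ne_zero h0)
  let ε : K ⊗[k] B ≃ₐ[K] Localization.Away ((1 : K) ⊗ₜ[k] h) := IsLocalization.Away.tensorProductEquivTMulRight k K h B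
  haveI : IsDomain (Localization.Away ((1 : K) ⊗ₜ[k] h)) := IsLocalization.isDomain_of_le_nonZeroDivisors (Localization.Away ((1 : K) ⊗ₜ[k] h)) hle
  haveI : IsDomain (K ⊗[k] B) := ε.toMulEquiv.isDomain
  haveI : UniqueFactorizationMonoid (Localization.Away ((1 : K) ⊗ₜ[k] h)) :=
    ufd_of_isLocalization A₀ (Submonoid.powers ((1 : K) ⊗ₜ[k] h)) hle _
  haveI : UniqueFactorizationMonoid (K ⊗[k] B) := ε.symm.toMulEquiv.uniqueFactorizationMonoid inferInstance
  let ψ : C ⊗[k] B →ₐ[C] K ⊗[k] B := Algebra.TensorProduct.map (Algebra.ofId C K) (AlgHom.id k B)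
  letI : Algebra (C ⊗[k] B) (K ⊗[k] B) := ψ.toRingHom.toAlgebra
  haveI : IsScalarTower C (C ⊗[k] B) (K ⊗[k] B) := IsScalarTower.of_algebraMap_eq fun c => (ψ.commutes c).symm
  haveI := IsLocalization.tensorProduct_tensorProduct k B (nonZeroDivisors C) K
    (RingHom.ext fun b => by simp [RingHom.algebraMap_toAlgebra, ψ])
  obtain ⟨s, ⟨c, hc, hs⟩, he⟩ := exists_basicOpen_frame (R' := K ⊗[k] B)
    (Algebra.algebraMapSubmonoid (C ⊗[k] B) (nonZeroDivisors C)) M hM
    (triv_of_ufd (CommRingCat.of (K ⊗[k] B)) _ (PicLoc.isInvertible_pullback _ hM))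
  subst hs
  exact ⟨c, nonZeroDivisors.ne_zero hc, he⟩

end Groth.Agent.PicProd26
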