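import Groth.Agent.PicProd26.Decomp
import Groth.Agent.GrpSchLib.SmoothReduced
import Groth.Prelude.Def_AlgGrp

/-!
# Classes under the action of a rational group
-/

set_option autoImplicit false
set_option linter.style.haveILetI false
set_option maxSynthPendingDepth 5
set_option backward.isDefEq.respectTransparency false

universe u

open CategoryTheory CategoryTheory.Limits AlgebraicGeometry MonoidalCategory CartesianMonoidalCategory MonObj

namespace Groth.Agent.PicProd26

open Groth.Agent

variable {k : Type u} [Field k] [IsAlgClosed k] {G X : Over (Spec (CommRingCat.of k))} [GrpObj G] [IsIntegral G.left]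
  [LocallyOfFiniteType G.hom] [IsIntegral X.left] [LocallyOfFiniteType X.hom] [PicGrp.Law G.left] [PicGrp.Law X.left]
  [PicGrp.Law (G ⊗ X).left]

/-- The inverse image along the action splits, with second component the class itself. -/
theorem exists_act_eq (hG : Pi1.IsNormalScheme G.left) (hc : HasChart G) (hX : Pi1.IsNormalScheme X.left)
    (a : AlgGrp.Action G X) (hσ : PicGrp.PullMul a.act.left) (hp : PicGrp.PullMul (snd G X).left)
    (c : PicLoc.PicSet X.left) : ∃ d : PicLoc.PicSet G.left,
      PicGrp.pullHom a.act.left hσ c =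
        PicGrp.pullHom (fst G X).left (H23.PicMul.pullMul _) d * PicGrp.pullHom (snd G X).left hp c := by
  letI := H23.PicMul.law (𝟙_ (Over (Spec (CommRingCat.of k)))).left
  obtain ⟨⟨d, b⟩, hdb⟩ := (bijective_prod G X (H23.PicMul.pullMul _) hp hG hX hc).2 (PicGrp.pullHom a.act.left hσ c)
  refine ⟨d, hdb.symm.trans ?_⟩
  suffices b = c by rw [this]
  have pm : ∀ {W Z : Scheme.{u}} (f : W ⟶ Z), PicGrp.PullMul f := fun f => H23.PicMul.pullMul f
  let s := lift (toUnit X ≫ η[G]) (𝟙 X)
  have hs : lift (toUnit X ≫ η[G]) (𝟙 X) = (λ_ X).inv ≫ η[G] ▷ X := by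
    apply CartesianMonoidalCategory.hom_ext <;> simp
  have h := congrArg (PicGrp.pullHom s.left (pm _)) hdb
  simp only [map_mul] at h
  rw [← PicGrp.pullHom_comp_apply _ _ (pm _) (pm _) (pm _), ← PicGrp.pullHom_comp_apply _ _ (pm _) hp (pm _),
    ← PicGrp.pullHom_comp_apply _ _ (pm _) hσ (pm _),
    pullHom_congr (show s.left ≫ (snd G X).left = 𝟙 _ by rw [← Over.comp_left, lift_snd]; rfl) _ (PicGrp.pullMul_id _),
    pullHom_congr (show s.left ≫ a.act.left = 𝟙 _ by
      rw [← Over.comp_left, show s = (λ_ X).inv ≫ η[G] ▷ X from hs, Category.assoc, a.one_act, Iso.inv_hom_id]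
      rfl) _ (PicGrp.pullMul_id _),
    pullHom_congr (show s.left ≫ (fst G X).left = (toUnit X).left ≫ η[G].left by
      rw [← Over.comp_left, ← Over.comp_left, lift_fst]) _ (pm _),
    PicGrp.pullHom_id_apply, PicGrp.pullHom_id_apply, PicGrp.pullHom_comp_apply _ _ (pm _) (pm _) _,
    point_eq_one (PicGrp.pullHom η[G].left (pm _) d), map_one, _root_.one_mul] at h
  exact h

/-- Powers killing the classes of the group linearise. -/
theorem act_pow_eq (hG : Pi1.IsNormalScheme G.left) (hc : HasChart G) (hX : Pi1.IsNormalScheme X.left)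
    (a : AlgGrp.Action G X) (hσ : PicGrp.PullMul a.act.left) (hp : PicGrp.PullMul (snd G X).left)
    (c : PicLoc.PicSet X.left) :
    PicGrp.pullHom a.act.left hσ (c ^ Monoid.exponent (PicLoc.PicSet G.left)) =
      PicGrp.pullHom (snd G X).left hp (c ^ Monoid.exponent (PicLoc.PicSet G.left)) := by
  obtain ⟨d, hd⟩ := exists_act_eq hG hc hX a hσ hp c
  rw [map_pow, map_pow, hd, mul_pow, ← map_pow, Monoid.pow_exponent_eq_one, map_one, _root_.one_mul]

omit [PicGrp.Law G.left] [PicGrp.Law X.left] [PicGrp.Law (G ⊗ X).left] in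
/-- Invertible modules are invariant under the rational points. -/
theorem nonempty_translate_iso (hG : Pi1.IsNormalScheme G.left) (hc : HasChart G) (hX : Pi1.IsNormalScheme X.left)
    (a : AlgGrp.Action G X) (g : 𝟙_ (Over (Spec (CommRingCat.of k))) ⟶ G) (L : X.left.Modules) (hL : PicF.IsInvertible L) :
    Nonempty ((Scheme.Modules.pullback (lift (toUnit X ≫ g) (𝟙 X) ≫ a.act).left).obj L ≅ L) := by
  letI := H23.PicMul.law G.left
  letI := H23.PicMul.law X.left
  letI := H23.PicMul.law (G ⊗ X).left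
  letI := H23.PicMul.law (𝟙_ (Over (Spec (CommRingCat.of k)))).left
  have pm : ∀ {W Z : Scheme.{u}} (f : W ⟶ Z), PicGrp.PullMul f := fun f => H23.PicMul.pullMul f
  obtain ⟨d, hd⟩ := exists_act_eq hG hc hX a (pm _) (pm _) (PicGrp.cls L hL)
  let s := lift (toUnit X ≫ g) (𝟙 X)
  have h := congrArg (PicGrp.pullHom s.left (pm _)) hd
  rw [map_mul, ← PicGrp.pullHom_comp_apply _ _ (pm _) (pm _) (pm _), ← PicGrp.pullHom_comp_apply _ _ (pm _) (pm _) (pm _),
    ← PicGrp.pullHom_comp_apply _ _ (pm _) (pm _) (pm _),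
    pullHom_congr (show s.left ≫ (snd G X).left = 𝟙 _ by rw [← Over.comp_left, lift_snd]; rfl) _ (PicGrp.pullMul_id _),
    pullHom_congr (show s.left ≫ a.act.left = (lift (toUnit X ≫ g) (𝟙 X) ≫ a.act).left from rfl) _ (pm _),
    pullHom_congr (show s.left ≫ (fst G X).left = (toUnit X).left ≫ g.left by
      rw [← Over.comp_left, ← Over.comp_left, lift_fst]) _ (pm _),
    PicGrp.pullHom_id_apply, PicGrp.pullHom_comp_apply _ _ (pm _) (pm _) _,
    point_eq_one (PicGrp.pullHom g.left (pm _) d), map_one, _root_.one_mul, PicGrp.pullHom_cls] at h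
  exact (PicGrp.cls_eq_cls_iff _ _).1 h

end Groth.Agent.PicProd26
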