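import Groth.Agent.PicProd26.Product

/-!
# Classes on a product with a rational variety
-/

set_option autoImplicit false
set_option linter.style.haveILetI false
set_option maxSynthPendingDepth 5
set_option backward.isDefEq.respectTransparency false

universe u

open CategoryTheory CategoryTheory.Limits AlgebraicGeometry MonoidalCategory CartesianMonoidalCategory

namespace Groth.Agent.PicProd26

open Groth.Agent Groth.Agent.H23.TrivBasic

variable {k : Type u} [Field k] [IsAlgClosed k]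

/-- Pullback of classes along equal maps. -/
theorem pullHom_congr {Z W : Scheme.{u}} [PicGrp.Law Z] [PicGrp.Law W] {f g : W ⟶ Z} (h : f = g) (hf : PicGrp.PullMul f)
    (hg : PicGrp.PullMul g) (c : PicLoc.PicSet Z) : PicGrp.pullHom f hf c = PicGrp.pullHom g hg c := by
  subst h; rfl

/-- Classes on the base point are trivial. -/
theorem point_eq_one [PicGrp.Law (𝟙_ (Over (Spec (CommRingCat.of k)))).left]
    (c : PicLoc.PicSet (𝟙_ (Over (Spec (CommRingCat.of k)))).left) : c = 1 := by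
  obtain ⟨L, hL, rfl⟩ := PicGrp.exists_eq_cls c
  exact (triv_iff_cls_eq_one hL).2 (triv_point hL)

/-- A variety has a rational point. -/
theorem exists_point (Y : Over (Spec (CommRingCat.of k))) [IsIntegral Y.left] [LocallyOfFiniteType Y.hom] :
    Nonempty (𝟙_ (Over (Spec (CommRingCat.of k))) ⟶ Y) := by
  obtain ⟨y⟩ : Nonempty Y.left := inferInstance
  obtain ⟨C, _, _, i, hi, -, hd, hf, -⟩ := exists_chart Y y
  haveI := hd; haveI := hf
  obtain ⟨m, hm⟩ := Ideal.exists_maximal C
  haveI : Algebra.FiniteType k (C ⧸ m) :=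
    Algebra.FiniteType.of_surjective (Ideal.Quotient.mkₐ k m) Ideal.Quotient.mk_surjective
  letI : Field (C ⧸ m) := Ideal.Quotient.field m
  haveI : Module.Finite k (C ⧸ m) := finite_of_finite_type_of_isJacobsonRing k (C ⧸ m)
  let χ : C →ₐ[k] k := ((AlgEquiv.ofBijective (Algebra.ofId k (C ⧸ m)) ⟨(algebraMap k (C ⧸ m)).injective,
    IsAlgClosed.algebraMap_bijective_of_isIntegral.2⟩).symm : C ⧸ m →ₐ[k] k).comp (Ideal.Quotient.mkₐ k m)
  exact ⟨(Over.homMk (Spec.map (CommRingCat.ofHom χ.toRingHom)) (by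
    show Spec.map _ ≫ Spec.map _ = 𝟙 _
    rw [← Spec.map_comp, ← CommRingCat.ofHom_comp]
    exact (congrArg (fun f => Spec.map (CommRingCat.ofHom f)) χ.comp_algebraMap).trans (Spec.map_id _)) :
      𝟙_ (Over (Spec (CommRingCat.of k))) ⟶ GrpSchLib.AffineHopf.sp k C) ≫ i⟩

variable (X Y : Over (Spec (CommRingCat.of k))) [IsIntegral X.left] [LocallyOfFiniteType X.hom] [IsIntegral Y.left]
  [LocallyOfFiniteType Y.hom] [PicGrp.Law X.left] [PicGrp.Law Y.left] [PicGrp.Law (X ⊗ Y).left]
  (h₁ : PicGrp.PullMul (fst X Y).left) (h₂ : PicGrp.PullMul (snd X Y).left)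

set_option maxHeartbeats 800000 in
/-- Every class on the product is a product of classes from the factors, unique ones. -/
theorem bijective_prod (hX : Pi1.IsNormalScheme X.left) (hY : Pi1.IsNormalScheme Y.left) (hc : HasChart X) :
    Function.Bijective (fun cd : PicLoc.PicSet X.left × PicLoc.PicSet Y.left =>
      PicGrp.pullHom (fst X Y).left h₁ cd.1 * PicGrp.pullHom (snd X Y).left h₂ cd.2) := by
  letI := H23.PicMul.law (𝟙_ (Over (Spec (CommRingCat.of k)))).left
  obtain ⟨x0, hx0⟩ := exists_point_triv X Y hX hY hc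
  obtain ⟨y0⟩ := exists_point Y
  let σY := lift (toUnit Y ≫ x0) (𝟙 Y)
  let σX := lift (𝟙 X) (toUnit X ≫ y0)
  have pm : ∀ {W Z : Scheme.{u}} (f : W ⟶ Z), PicGrp.PullMul f := fun f => H23.PicMul.pullMul f
  have e1 : ∀ a, PicGrp.pullHom σX.left (pm _) (PicGrp.pullHom (fst X Y).left h₁ a) = a := fun a => by
    rw [← PicGrp.pullHom_comp_apply _ _ (pm _) h₁ (pm _), pullHom_congr
      (show σX.left ≫ (fst X Y).left = 𝟙 _ by rw [← Over.comp_left, lift_fst]; rfl) _ (PicGrp.pullMul_id _),
      PicGrp.pullHom_id_apply]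
  have e2 : ∀ b, PicGrp.pullHom σY.left (pm _) (PicGrp.pullHom (snd X Y).left h₂ b) = b := fun b => by
    rw [← PicGrp.pullHom_comp_apply _ _ (pm _) h₂ (pm _), pullHom_congr
      (show σY.left ≫ (snd X Y).left = 𝟙 _ by rw [← Over.comp_left, lift_snd]; rfl) _ (PicGrp.pullMul_id _),
      PicGrp.pullHom_id_apply]
  have e3 : ∀ b, PicGrp.pullHom σX.left (pm _) (PicGrp.pullHom (snd X Y).left h₂ b) = 1 := fun b => by
    rw [← PicGrp.pullHom_comp_apply _ _ (pm _) h₂ (pm _), pullHom_congr
      (show σX.left ≫ (snd X Y).left = (toUnit X).left ≫ y0.left by rw [← Over.comp_left, ← Over.comp_left, lift_snd])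
      _ (pm _), PicGrp.pullHom_comp_apply _ _ (pm _) (pm _) _, point_eq_one (PicGrp.pullHom y0.left (pm _) b), map_one]
  have e4 : ∀ a, PicGrp.pullHom σY.left (pm _) (PicGrp.pullHom (fst X Y).left h₁ a) = 1 := fun a => by
    rw [← PicGrp.pullHom_comp_apply _ _ (pm _) h₁ (pm _), pullHom_congr
      (show σY.left ≫ (fst X Y).left = (toUnit Y).left ≫ x0.left by rw [← Over.comp_left, ← Over.comp_left, lift_fst])
      _ (pm _), PicGrp.pullHom_comp_apply _ _ (pm _) (pm _) _, point_eq_one (PicGrp.pullHom x0.left (pm _) a), map_one]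
  refine ⟨fun p q hpq => Prod.ext ?_ ?_, fun c => ?_⟩
  · have := congrArg (PicGrp.pullHom σX.left (pm _)) hpq
    simpa only [map_mul, e1, e3, mul_one] using this
  · have := congrArg (PicGrp.pullHom σY.left (pm _)) hpq
    simpa only [map_mul, e2, e4, one_mul] using this
  let a := PicGrp.pullHom σX.left (pm _) c
  let b := PicGrp.pullHom σY.left (pm _) c
  refine ⟨(a, b), ?_⟩
  show PicGrp.pullHom (fst X Y).left h₁ a * PicGrp.pullHom (snd X Y).left h₂ b = c
  obtain ⟨L, hL, hcl⟩ := PicGrp.exists_eq_cls (c * (PicGrp.pullHom (fst X Y).left h₁ a * PicGrp.pullHom (snd X Y).left h₂ b)⁻¹)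
  have hx : PicGrp.pullHom σX.left (pm _) (PicGrp.cls L hL) = 1 := by
    rw [← hcl, map_mul, map_inv, map_mul, e1, e3, mul_one, mul_inv_cancel]
  have hy : PicGrp.pullHom σY.left (pm _) (PicGrp.cls L hL) = 1 := by
    rw [← hcl, map_mul, map_inv, map_mul, e2, e4, one_mul, mul_inv_cancel]
  rw [PicGrp.pullHom_cls] at hx hy
  have h := (triv_iff_cls_eq_one hL).2 (hx0 y0 L hL ((triv_iff_cls_eq_one _).1 hy) ((triv_iff_cls_eq_one _).1 hx))
  rw [← hcl, mul_inv_eq_one] at h
  exact h.symm

end Groth.Agent.PicProd26
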