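import Groth.Agent.InvUfdLib.Extend
import Groth.Agent.InvUfdLib.Semilocal
import Groth.Agent.PicAff79.Spread
import Groth.Agent.FlatDvr.FibreStalk
import Groth.Agent.InvX.GenLocusPull
import Groth.Agent.S7885
import Mathlib.AlgebraicGeometry.Geometrically.Integral
import Mathlib.AlgebraicGeometry.Morphisms.Flat
import Mathlib.RingTheory.DiscreteValuationRing.TFAE
import Mathlib.RingTheory.Ideal.GoingDown

/-!
# An invertible module trivial along a section and over a dense open of the base is trivial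

`Z → X` is flat with geometrically integral fibres, both integral and normal.
-/

set_option autoImplicit false
set_option linter.style.haveILetI false
set_option maxSynthPendingDepth 5

universe u

open CategoryTheory CategoryTheory.Limits AlgebraicGeometry TopologicalSpace Opposite IsLocalRing

namespace Groth.Agent.PicProd26

open Groth.Agent.AModX Groth.Agent.InvX

section Algebra

variable {R K : Type*} [CommRing R] [IsDomain R] [CommRing K] [Algebra R K]

/-- An element with numerator and denominator powers of a prime is a power of it times a unit. -/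
theorem exists_unit_of_prime (hinj : Function.Injective (algebraMap R K)) {π : R} (hπ : Prime π) {f g : K}
    (hfg : f * g = 1) {n m : ℕ} {a b : R} (ha : algebraMap R K π ^ n * f = algebraMap R K a)
    (hb : algebraMap R K π ^ m * g = algebraMap R K b) :
    ∃ (i : ℕ) (u : Rˣ), algebraMap R K π ^ n * f = algebraMap R K (π ^ i * u) := by
  have hab : a * b = π ^ (n + m) := hinj (by
    rw [map_mul, ← ha, ← hb, map_pow, pow_add]
    linear_combination (algebraMap R K π ^ n * algebraMap R K π ^ m) * hfg)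
  obtain ⟨i, -, hi⟩ := (dvd_prime_pow hπ (n + m)).1 ⟨b, hab.symm⟩
  obtain ⟨w, hw⟩ := hi.symm
  exact ⟨i, w, by rw [ha, hw]⟩

/-- In a discrete valuation ring powers of the uniformiser differ. -/
theorem eq_of_pow_mul_unit {π : R} (hπ : Irreducible π) {n i : ℕ} (u v : Rˣ) (h : π ^ n * u = π ^ i * v) : n = i := by
  have key : ∀ {n i : ℕ} (u v : Rˣ), π ^ n * u = π ^ i * v → ¬ n < i := fun {n i} u v h hlt => by
    obtain ⟨j, rfl⟩ : ∃ j, i = n + (j + 1) := ⟨i - n - 1, by omega⟩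
    rw [pow_add, mul_assoc] at h
    have := mul_left_cancel₀ (pow_ne_zero n hπ.ne_zero) h
    exact hπ.not_isUnit (isUnit_of_dvd_unit ⟨π ^ j * v, by rw [this, pow_succ]; ring⟩ u.isUnit)
  rcases lt_trichotomy n i with hlt | rfl | hlt
  · exact absurd hlt (key u v h)
  · rfl
  · exact absurd hlt (key v u h.symm)

end Algebra

section Scheme

variable {X Z : Scheme.{u}} (p : Z ⟶ X)

/-- The dimension of the base local ring is at most that of the source. -/
theorem ringKrullDim_stalk_le [Flat p] (z : Z) :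
    ringKrullDim (X.presheaf.stalk (p z)) ≤ ringKrullDim (Z.presheaf.stalk z) := by
  letI := (p.stalkMap z).hom.toAlgebra
  haveI : Module.Flat (X.presheaf.stalk (p z)) (Z.presheaf.stalk z) :=
    (RingHom.flat_algebraMap_iff).1 (Flat.stalkMap p z)
  haveI : IsLocalHom (algebraMap (X.presheaf.stalk (p z)) (Z.presheaf.stalk z)) := p.toLRSHom.prop z
  refine iSup_le fun l => ?_
  haveI : (maximalIdeal (Z.presheaf.stalk z)).IsPrime := (maximalIdeal.isMaximal _).isPrime
  let l' : LTSeries (PrimeSpectrum (X.presheaf.stalk (p z))) := l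
  rcases eq_or_ne l'.last (closedPoint _) with he | he
  · haveI : (maximalIdeal (Z.presheaf.stalk z)).LiesOver l'.last.asIdeal := ⟨by
      rw [he]; exact ((((local_hom_TFAE (algebraMap (X.presheaf.stalk (p z)) (Z.presheaf.stalk z))).out 0 4 rfl rfl).1
        ‹_›).symm)⟩
    obtain ⟨L, hL, -, -⟩ := Ideal.exists_ltSeries_of_hasGoingDown l' (maximalIdeal (Z.presheaf.stalk z))
    exact le_iSup_of_le L (by rw [hL])
  · let l'' := l'.snoc (closedPoint _) (lt_of_le_of_ne (show l'.last ≤ closedPoint _ from IsLocalRing.le_maximalIdeal l'.last.2.ne_top) he)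
    haveI : (maximalIdeal (Z.presheaf.stalk z)).LiesOver l''.last.asIdeal := ⟨by
      rw [show l''.last = closedPoint _ from RelSeries.last_snoc _ _ _]
      exact ((((local_hom_TFAE (algebraMap (X.presheaf.stalk (p z)) (Z.presheaf.stalk z))).out 0 4 rfl rfl).1
        ‹_›).symm)⟩
    obtain ⟨L, hL, -, -⟩ := Ideal.exists_ltSeries_of_hasGoingDown l'' (maximalIdeal (Z.presheaf.stalk z))
    refine le_iSup_of_le L ?_
    rw [hL]
    exact_mod_cast Nat.le_succ _

/-- A point whose local ring is a field is generic. -/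
theorem eq_genericPoint_of_isField [IsIntegral X] (x : X) (h : IsField (X.presheaf.stalk x)) :
    x = genericPoint X := by
  obtain ⟨q, hq⟩ : genericPoint X ∈ Set.range (X.fromSpecStalk x) := by
    rw [Scheme.range_fromSpecStalk]; exact (genericPoint_spec X).specializes trivial
  have : q = closedPoint _ := PrimeSpectrum.ext
    (((IsSimpleOrder.eq_bot_or_eq_top q.asIdeal (self := Ring.isField_iff_isSimpleOrder_ideal.1 h)).resolve_right
      q.2.ne_top).trans (isField_iff_maximalIdeal_eq.1 h).symm)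
  rw [← hq, this]
  exact Scheme.fromSpecStalk_closedPoint.symm

/-- A normal point of codimension one is a discrete valuation ring. -/
theorem isDvr_stalk [IsIntegral X] [IsLocallyNoetherian X] (hX : Pi1.IsNormalScheme X) (x : X)
    (hx : x ≠ genericPoint X) (hd : ringKrullDim (X.presheaf.stalk x) ≤ 1) :
    IsDiscreteValuationRing (X.presheaf.stalk x) := by
  haveI := (hX x).1
  haveI := (hX x).2
  haveI : Ring.KrullDimLE 1 (X.presheaf.stalk x) := Ring.krullDimLE_iff.2 hd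
  have hf : ¬ IsField (X.presheaf.stalk x) := fun h => hx (eq_genericPoint_of_isField x h)
  refine ((IsDiscreteValuationRing.TFAE (X.presheaf.stalk x) hf).out 3 0 rfl rfl).1 ⟨inferInstance, ?_⟩
  refine ⟨maximalIdeal _, ⟨?_, (maximalIdeal.isMaximal _).isPrime⟩, fun P hP => ?_⟩
  · exact fun h => hf (isField_iff_maximalIdeal_eq.2 h)
  · exact eq_maximalIdeal ((Ring.krullDimLE_one_iff_of_noZeroDivisors).1 inferInstance P hP.1 hP.2)

/-- Over a point of codimension one, the only point of codimension at most one is the generic point of the fibre. -/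
theorem specializes_of_dim_le_one [IsIntegral Z] [IsLocallyNoetherian Z] [IsIntegral X] [GeometricallyIntegral p]
    [Flat p] (ξ : Z) (hd : ringKrullDim (Z.presheaf.stalk ξ) ≤ 1) (hx : p ξ ≠ genericPoint X) (z : Z)
    (hz : p z = p ξ) : ξ ⤳ z := by
  let F := p.fiber (p ξ)
  let g := p.fiberι (p ξ) (genericPoint F)
  have hgsp : ∀ z : Z, p z = p ξ → g ⤳ z := fun z hz => by
    obtain ⟨w, rfl⟩ : z ∈ Set.range (p.fiberι (p ξ)) := by
      rw [Scheme.Hom.range_fiberι]; exact hz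
    exact ((genericPoint_spec F).specializes trivial).map (p.fiberι (p ξ)).continuous
  have hpg : p g = p ξ := FlatDvr.fiberι_apply_eq p _
  suffices g = ξ from this ▸ hgsp z hz
  obtain ⟨q, hq⟩ : g ∈ Set.range (Z.fromSpecStalk ξ) := by
    rw [Scheme.range_fromSpecStalk]; exact hgsp ξ rfl
  haveI : Ring.KrullDimLE 1 (Z.presheaf.stalk ξ) := Ring.krullDimLE_iff.2 hd
  have hq0 : q.asIdeal ≠ ⊥ := fun h0 => by
    have hgen : g = genericPoint Z := by
      obtain ⟨q₀, hq₀⟩ : genericPoint Z ∈ Set.range (Z.fromSpecStalk ξ) := by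
        rw [Scheme.range_fromSpecStalk]; exact (genericPoint_spec Z).specializes trivial
      rw [← hq, ← hq₀]
      refine congrArg _ (le_antisymm (α := PrimeSpectrum _) (show q.asIdeal ≤ q₀.asIdeal from h0 ▸ bot_le) ?_)
      refine (PrimeSpectrum.le_iff_specializes _ _).2 ?_
      exact (Z.fromSpecStalk ξ).isEmbedding.isInducing.specializes_iff.1
        (hq₀ ▸ (genericPoint_spec Z).specializes trivial)
    refine hx ?_
    rw [← hpg, hgen]
    refine ((genericPoint_spec X).eq ?_).symm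
    haveI : Surjective p := inferInstance
    have h1 := (genericPoint_spec Z).image p.continuous
    rwa [Set.image_univ, p.surjective.range_eq, closure_univ] at h1
  have : q = closedPoint _ := PrimeSpectrum.ext
    (eq_maximalIdeal ((Ring.krullDimLE_one_iff_of_noZeroDivisors).1 inferInstance q.asIdeal hq0 q.2))
  rw [← hq, this]
  exact Scheme.fromSpecStalk_closedPoint

/-- A local uniformiser stays prime along a geometrically integral fibre. -/
theorem prime_stalkMap [IsIntegral Z] [GeometricallyIntegral p] [Flat p] (z : Z) [IsIntegral X]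
    [IsDiscreteValuationRing (X.presheaf.stalk (p z))] {π : X.presheaf.stalk (p z)} (hπ : Irreducible π) :
    Prime ((p.stalkMap z).hom π) := by
  have hinj : Function.Injective (p.stalkMap z).hom := by
    letI := (p.stalkMap z).hom.toAlgebra
    haveI : Module.Flat (X.presheaf.stalk (p z)) (Z.presheaf.stalk z) :=
      (RingHom.flat_algebraMap_iff).1 (Flat.stalkMap p z)
    haveI : IsLocalHom (algebraMap (X.presheaf.stalk (p z)) (Z.presheaf.stalk z)) := p.toLRSHom.prop z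
    haveI := Module.FaithfullyFlat.of_flat_of_isLocalHom (A := X.presheaf.stalk (p z)) (B := Z.presheaf.stalk z)
    exact FaithfulSMul.algebraMap_injective (X.presheaf.stalk (p z)) (Z.presheaf.stalk z)
  rw [← Ideal.span_singleton_prime fun h => hπ.ne_zero (hinj (h.trans (map_zero _).symm))]
  obtain ⟨w, hw⟩ : z ∈ Set.range (p.fiberι (p z)) := by
    rw [Scheme.Hom.range_fiberι]; rfl
  have hker := FlatDvr.ker_stalkMap_fiberι p (y := p z) w
  haveI : ((maximalIdeal (X.presheaf.stalk (p (p.fiberι (p z) w)))).map (p.stalkMap (p.fiberι (p z) w)).hom).IsPrime :=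
    hker ▸ RingHom.ker_isPrime _
  have key : ∀ z' (_ : z' = z), ((maximalIdeal (X.presheaf.stalk (p z'))).map (p.stalkMap z').hom).IsPrime →
      ((maximalIdeal (X.presheaf.stalk (p z))).map (p.stalkMap z).hom).IsPrime := by rintro _ rfl h; exact h
  have := key _ hw inferInstance
  rwa [(IsDiscreteValuationRing.irreducible_iff_uniformizer π).1 hπ, Ideal.map_span, Set.image_singleton] at this

end Scheme

section Extension

variable {X Z : Scheme.{u}} [IsIntegral Z] [IsLocallyNoetherian Z] [IsIntegral X] [IsLocallyNoetherian X]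
  (p : Z ⟶ X) [Flat p] [GeometricallyIntegral p] (σ : X ⟶ Z) (U : X.Opens) {L : Z.Modules}

omit [IsLocallyNoetherian Z] in
/-- Functions agreeing on a nonempty open subset agree. -/
theorem resR_injective {W W' : Z.Opens} (h : W' ≤ W) (hne : Nonempty W') :
    Function.Injective (resR (X := Z) h) := by
  obtain ⟨⟨z, hz⟩⟩ := hne
  haveI : Nonempty W := ⟨⟨z, h hz⟩⟩
  haveI : IsIntegral W.toScheme := isIntegral_of_isOpenImmersion W.ι
  exact InvUfdLib.resR_injective_of_integral le_rfl h hz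

omit [IsLocallyNoetherian Z] in
/-- The denominators of a function on an open subset of an affine open subset. -/
theorem exists_pow_mul_mem {V O : Z.Opens} (hV : IsAffineOpen V) (hO : O ≤ V) (f : Γ(Z, O)) {z : Z} (hz : z ∈ V)
    (π : Γ(Z, V)) (hπ : ∀ y ∈ V, y ⤳ z → y ∉ O → y ∉ Z.basicOpen π) [Nonempty O] :
    ∃ (n : ℕ) (a : Z.presheaf.stalk z), algebraMap (Z.presheaf.stalk z) Z.functionField (Z.presheaf.germ V z hz π) ^ n *
      Z.germToFunctionField O f = algebraMap (Z.presheaf.stalk z) Z.functionField a := by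
  haveI : Nonempty V := ⟨⟨z, hz⟩⟩
  let C := Γ(Z, V)
  let D : Ideal C :=
    { carrier := {c | ∃ r : C, resR hO c * f = resR hO r}
      zero_mem' := ⟨0, by simp⟩
      add_mem' := fun ⟨r, hr⟩ ⟨r', hr'⟩ => ⟨r + r', by rw [map_add, map_add, add_mul, hr, hr']⟩
      smul_mem' := fun b c ⟨r, hr⟩ => ⟨b * r, by rw [smul_eq_mul, map_mul, map_mul, mul_assoc, hr]⟩ }
  letI : Algebra C (Z.presheaf.stalk z) := TopCat.Presheaf.algebra_section_stalk Z.presheaf (U := V) ⟨z, hz⟩
  haveI : IsLocalization.AtPrime (Z.presheaf.stalk z) (hV.primeIdealOf ⟨z, hz⟩).asIdeal :=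
    hV.isLocalization_stalk ⟨z, hz⟩
  have hrad : Z.presheaf.germ V z hz π ∈ (D.map (algebraMap C (Z.presheaf.stalk z))).radical := by
    rw [Ideal.radical_eq_sInf, Ideal.mem_sInf]
    rintro P ⟨hPD, hP⟩
    let Q : PrimeSpectrum C := ⟨P.comap (algebraMap C (Z.presheaf.stalk z)), hP.comap _⟩
    have hQz : Q.asIdeal ≤ (hV.primeIdealOf ⟨z, hz⟩).asIdeal := fun c hc => by
      by_contra hn
      exact hP.ne_top (Ideal.eq_top_of_isUnit_mem _ hc
        (IsLocalization.map_units (Z.presheaf.stalk z) (⟨c, hn⟩ : (hV.primeIdealOf ⟨z, hz⟩).asIdeal.primeCompl)))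
    let y := hV.fromSpec Q
    have hyV : y ∈ V := hV.range_fromSpec.le ⟨Q, rfl⟩
    have hyz : y ⤳ z := by
      rw [← show hV.fromSpec (hV.primeIdealOf ⟨z, hz⟩) = z from hV.fromSpec_primeIdealOf ⟨z, hz⟩]
      exact ((PrimeSpectrum.le_iff_specializes Q _).1 hQz).map hV.fromSpec.continuous
    have hyO : y ∉ O := fun hy => by
      obtain ⟨c₀, hc₀, hyc⟩ := hV.exists_basicOpen_le ⟨y, hy⟩ hyV
      haveI := hV.isLocalization_basicOpen c₀
      obtain ⟨⟨r, ⟨_, m, rfl⟩⟩, hrm⟩ := IsLocalization.surj (Submonoid.powers c₀) (show Γ(Z, Z.basicOpen c₀) from resR hc₀ f)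
      have hmem : c₀ ^ m ∈ D := ⟨r, resR_injective hc₀ ⟨⟨y, hyc⟩⟩ (by
        rw [map_mul, resR_resR, resR_resR, mul_comm]
        exact hrm)⟩
      have hc : c₀ ∈ Q.asIdeal := Q.2.mem_of_pow_mem m (hPD (Ideal.mem_map_of_mem _ hmem))
      have hyc' : Q ∈ hV.fromSpec ⁻¹ᵁ Z.basicOpen c₀ := hyc
      rw [hV.fromSpec_preimage_basicOpen] at hyc'
      exact hyc' hc
    have h := hπ y hyV hyz hyO
    by_contra hn
    refine h ?_
    show Q ∈ hV.fromSpec ⁻¹ᵁ Z.basicOpen π
    rw [hV.fromSpec_preimage_basicOpen]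
    exact hn
  obtain ⟨n, hn⟩ := hrad
  obtain ⟨⟨⟨c, r, hr⟩, t⟩, ht⟩ := (IsLocalization.mem_map_algebraMap_iff (hV.primeIdealOf ⟨z, hz⟩).asIdeal.primeCompl
    (Z.presheaf.stalk z)).1 hn
  obtain ⟨t', ht'⟩ := IsLocalization.map_units (Z.presheaf.stalk z) t
  refine ⟨n, algebraMap C (Z.presheaf.stalk z) r * ↑t'⁻¹, ?_⟩
  have hg : ∀ b : C, algebraMap (Z.presheaf.stalk z) Z.functionField (algebraMap C (Z.presheaf.stalk z) b) =
      Z.germToFunctionField V b := fun b => Scheme.algebraMap_germ_eq_germToFunctionField (X := Z) hz b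
  have hres : ∀ b : C, Z.germToFunctionField O (resR hO b) = Z.germToFunctionField V b := fun b =>
    Z.presheaf.germ_res_apply (homOfLE hO) _ _ b
  have h1 : Z.germToFunctionField V c * Z.germToFunctionField O f = Z.germToFunctionField V r := by
    rw [← hres, ← hres, ← map_mul, hr]
  rw [← hg, ← hg, ← ht, map_mul, map_pow] at h1
  rw [← ht'] at h1
  rw [map_mul, ← h1]
  have e1 : algebraMap (Z.presheaf.stalk z) Z.functionField (t' : Z.presheaf.stalk z) *
      algebraMap (Z.presheaf.stalk z) Z.functionField ↑t'⁻¹ = 1 := by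
    rw [← map_mul, Units.mul_inv, map_one]
  linear_combination -(algebraMap (Z.presheaf.stalk z) Z.functionField (Z.presheaf.germ V z hz π) ^ n *
    Z.germToFunctionField O f) * e1

/-- The frame extends over a point of codimension one. -/
theorem exists_frame_codim_one (hX : Pi1.IsNormalScheme X) (hσ : σ ≫ p = 𝟙 X) (hU : (U : Set X).Nonempty)
    (hL : PicF.IsInvertible L) {s : Γ(L, p ⁻¹ᵁ U)} (hs : IsFrame s)
    {e₁ : Γ((Scheme.Modules.pullback σ).obj L, ⊤)} (he₁ : IsFrame e₁)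
    (hcomp : pullElt σ s = res _ le_top e₁) (ξ : Z) (hξ : ξ ∉ p ⁻¹ᵁ U)
    (hd : ringKrullDim (Z.presheaf.stalk ξ) ≤ 1) :
    ∃ (V : Z.Opens) (_ : ξ ∈ V) (e : Γ(L, V)), IsFrame e ∧
      res L (inf_le_left : V ⊓ p ⁻¹ᵁ U ≤ V) e = res L (inf_le_right : V ⊓ p ⁻¹ᵁ U ≤ p ⁻¹ᵁ U) s := by
  let η := genericPoint X
  have hηU : η ∈ U := by
    obtain ⟨y, hy⟩ := hU
    exact ((genericPoint_spec X).specializes trivial).mem_open U.isOpen hy
  let x := p ξ
  have hxU : x ∉ U := hξ
  have hxη : x ≠ η := fun h => hxU (h ▸ hηU)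
  haveI hdvr : IsDiscreteValuationRing (X.presheaf.stalk x) :=
    isDvr_stalk hX x hxη ((ringKrullDim_stalk_le p ξ).trans hd)
  obtain ⟨πx, hπx⟩ := IsDiscreteValuationRing.exists_irreducible (X.presheaf.stalk x)
  obtain ⟨W, hxW, πW, hπW⟩ := X.presheaf.exists_germ_eq πx
  let z := σ x
  have hpσ : ∀ y, p (σ y) = y := fun y => by
    rw [← Scheme.Hom.comp_apply, hσ]; rfl
  have hpz : p z = x := hpσ x
  obtain ⟨V₀, hzV₀, e₀, he₀⟩ := exists_frame hL z
  obtain ⟨_, ⟨V, hV, rfl⟩, hzV, hVle⟩ := Z.isBasis_affineOpens.exists_subset_of_mem_open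
    (show z ∈ (V₀ ⊓ p ⁻¹ᵁ W : Z.Opens) from ⟨hzV₀, show p z ∈ W from hpz.symm ▸ hxW⟩) (V₀ ⊓ p ⁻¹ᵁ W).isOpen
  have hVV₀ : V ≤ V₀ := fun y hy => (hVle hy).1
  have hVW : V ≤ p ⁻¹ᵁ W := fun y hy => (hVle hy).2
  let e := res L hVV₀ e₀
  have he : IsFrame e := he₀.res hVV₀
  have hσηV : σ η ∈ V :=
    (((genericPoint_spec X).specializes trivial).map σ.continuous).mem_open V.isOpen hzV
  let O := V ⊓ p ⁻¹ᵁ U
  haveI : Nonempty O := ⟨⟨σ η, hσηV, show p (σ η) ∈ U from (hpσ η).symm ▸ hηU⟩⟩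
  obtain ⟨f, hf⟩ := he.exists_coord (inf_le_left : O ≤ V) (res L inf_le_right s)
  have hfu : IsUnit f := PicAff79.isUnit_of_frames (he.res (inf_le_left : O ≤ V)) (hf ▸ hs.res inf_le_right)
  obtain ⟨f', rfl⟩ := hfu
  let π : Γ(Z, V) := p.appLE W V hVW πW
  have hπbad : ∀ y ∈ V, y ⤳ z → y ∉ O → y ∉ Z.basicOpen π := by
    intro y hy hyz hyO hyπ
    have h1 : y ∈ p ⁻¹ᵁ X.basicOpen πW := by
      rw [Scheme.preimage_basicOpen]
      rw [show π = resR hVW (p.app W πW) from rfl] at hyπ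
      erw [Scheme.basicOpen_res] at hyπ
      exact hyπ.2
    have hsp : p y ⤳ x := hpz ▸ hyz.map p.continuous
    obtain ⟨q, hq⟩ : p y ∈ Set.range (X.fromSpecStalk x) := by
      rw [Scheme.range_fromSpecStalk]; exact hsp
    rcases eq_or_ne q.asIdeal ⊥ with h0 | h0
    · refine hyO ⟨hy, show p y ∈ U from ?_⟩
      have : q = (⟨⊥, Ideal.bot_prime⟩ : PrimeSpectrum _) := PrimeSpectrum.ext h0
      obtain ⟨q₀, hq₀⟩ : η ∈ Set.range (X.fromSpecStalk x) := by
        rw [Scheme.range_fromSpecStalk]; exact (genericPoint_spec X).specializes trivial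
      have hle : q ⤳ q₀ := (PrimeSpectrum.le_iff_specializes q q₀).1 (show q.asIdeal ≤ q₀.asIdeal from h0 ▸ bot_le)
      rw [← hq]
      exact (hle.map (X.fromSpecStalk x).continuous).mem_open U.isOpen (hq₀.symm ▸ hηU)
    · have hqc : q = closedPoint _ := PrimeSpectrum.ext (eq_maximalIdeal (Ideal.IsPrime.isMaximal q.2 h0))
      have hpx : p y = x := by rw [← hq, hqc]; exact Scheme.fromSpecStalk_closedPoint
      have h2 : x ∈ X.basicOpen πW := hpx ▸ h1
      rw [X.mem_basicOpen πW x hxW] at h2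
      exact hπx.not_isUnit (hπW ▸ h2)
  obtain ⟨n, a, ha⟩ := exists_pow_mul_mem hV inf_le_left (f' : Γ(Z, O)) hzV π hπbad
  obtain ⟨m, b, hb⟩ := exists_pow_mul_mem hV inf_le_left (↑f'⁻¹ : Γ(Z, O)) hzV π hπbad
  have hprime : Prime (Z.presheaf.germ V z hzV π) := by
    have h0 : Z.presheaf.germ V z hzV π = (p.stalkMap z).hom (X.presheaf.germ W (p z) (hpz.symm ▸ hxW) πW) := by
      rw [Scheme.Hom.germ_stalkMap_apply]
      exact Z.presheaf.germ_res_apply (homOfLE hVW) z hzV _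
    have key : ∀ (x' : X) (_ : x' = x) (hx' : x' ∈ W),
        IsDiscreteValuationRing (X.presheaf.stalk x') ∧ Irreducible (X.presheaf.germ W x' hx' πW) := by
      rintro _ rfl hx'
      exact ⟨hdvr, hπW ▸ hπx⟩
    obtain ⟨hd', hi⟩ := key (p z) hpz (hpz.symm ▸ hxW)
    haveI := hd'
    rw [h0]
    exact prime_stalkMap p z hi
  obtain ⟨i, u, hu⟩ := exists_unit_of_prime (IsFractionRing.injective (Z.presheaf.stalk z) Z.functionField) hprime
    (show Z.germToFunctionField O (f' : Γ(Z, O)) * Z.germToFunctionField O (↑f'⁻¹ : Γ(Z, O)) = 1 by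
      rw [← map_mul, Units.mul_inv, map_one]) ha hb
  -- representatives
  obtain ⟨V₁', hzV₁', ũ', hũ'⟩ := Z.presheaf.exists_germ_eq (u : Z.presheaf.stalk z)
  have hub : z ∈ Z.basicOpen ũ' := by
    rw [Z.mem_basicOpen ũ' z hzV₁', hũ']; exact u.isUnit
  let V₁ := V ⊓ Z.basicOpen ũ'
  have hzV₁ : z ∈ V₁ := ⟨hzV, hub⟩
  have h₁le : V₁ ≤ V := inf_le_left
  let ũ : Γ(Z, V₁) := resR (inf_le_right.trans (Z.basicOpen_le ũ')) ũ'
  have hũ : IsUnit ũ := isUnit_resR _ _ inf_le_right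
  have hσV₁ : σ η ∈ V₁ :=
    (((genericPoint_spec X).specializes trivial).map σ.continuous).mem_open V₁.isOpen hzV₁
  let O₁ := V₁ ⊓ p ⁻¹ᵁ U
  haveI : Nonempty O₁ := ⟨⟨σ η, hσV₁, show p (σ η) ∈ U from (hpσ η).symm ▸ hηU⟩⟩
  have hO₁O : O₁ ≤ O := inf_le_inf_right _ h₁le
  have hπ1 : ∀ j : ℕ, Z.germToFunctionField O₁ (resR (inf_le_left.trans h₁le) π ^ j) =
      algebraMap (Z.presheaf.stalk z) Z.functionField (Z.presheaf.germ V z hzV π) ^ j := fun j => by
    haveI : Nonempty V := ⟨⟨z, hzV⟩⟩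
    rw [map_pow]
    refine congrArg (· ^ j) ?_
    refine (Z.presheaf.germ_res_apply (homOfLE (inf_le_left.trans h₁le : O₁ ≤ V)) _ _ π).trans ?_
    exact (Scheme.algebraMap_germ_eq_germToFunctionField (X := Z) hzV π).symm
  have hrel : resR (inf_le_left.trans h₁le : O₁ ≤ V) π ^ n * resR hO₁O (f' : Γ(Z, O)) =
      resR (inf_le_left.trans h₁le : O₁ ≤ V) π ^ i * resR (inf_le_left : O₁ ≤ V₁) ũ := by
    refine Scheme.germToFunctionField_injective Z O₁ ?_
    rw [map_mul, map_mul, hπ1, hπ1,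
      show Z.germToFunctionField O₁ (resR hO₁O (f' : Γ(Z, O))) = Z.germToFunctionField O (f' : Γ(Z, O)) from
        Z.presheaf.germ_res_apply (homOfLE hO₁O) _ _ _,
      hu, map_mul, map_pow]
    refine congrArg (_ * ·) ?_
    haveI : Nonempty V₁ := ⟨⟨z, hzV₁⟩⟩
    rw [show Z.germToFunctionField O₁ (resR inf_le_left ũ) = Z.germToFunctionField V₁ ũ from
      Z.presheaf.germ_res_apply (homOfLE (inf_le_left : O₁ ≤ V₁)) _ _ ũ,
      ← Scheme.algebraMap_germ_eq_germToFunctionField (X := Z) hzV₁ ũ, ← hũ']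
    exact congrArg _ (Z.presheaf.germ_res_apply
      (homOfLE (inf_le_right.trans (Z.basicOpen_le ũ') : V₁ ≤ V₁')) z hzV₁ ũ').symm
  -- evaluation along the section
  have hni : n = i := by
    let S₁ := σ ⁻¹ᵁ V₁
    let S₂ := σ ⁻¹ᵁ O₁
    have hx₁ : x ∈ S₁ := hzV₁
    have hS : S₂ ≤ S₁ := fun _ h => h.1
    haveI : Nonempty S₁ := ⟨⟨x, hx₁⟩⟩
    haveI : Nonempty S₂ := ⟨⟨η, hσV₁, show p (σ η) ∈ U from (hpσ η).symm ▸ hηU⟩⟩
    let e' := res L h₁le e
    have he' : IsFrame e' := he.res h₁le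
    obtain ⟨c, hc⟩ := he₁.exists_coord (le_top : S₁ ≤ ⊤) (pullElt σ e')
    have hcu : IsUnit c := PicAff79.isUnit_of_frames (he₁.res le_top) (hc ▸ isFrame_pullElt σ he')
    have hσf : σ.app O₁ (resR hO₁O (f' : Γ(Z, O))) * resR hS c = 1 := by
      refine he₁.coord_unique le_top ?_
      rw [one_smul, mul_smul]
      have h1 : res L (inf_le_right : O₁ ≤ p ⁻¹ᵁ U) s = resR hO₁O (f' : Γ(Z, O)) • res L inf_le_left e' := by
        have := congrArg (res L hO₁O) hf
        rw [res_res, res_smul, res_res] at this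
        rw [this]
        refine congrArg (_ • ·) ?_
        simp only [e', e, res_res]
      have h2 := congrArg (pullElt σ) h1
      rw [pullElt_smul, ← res_pullElt σ (inf_le_right : O₁ ≤ p ⁻¹ᵁ U), ← res_pullElt σ (inf_le_left : O₁ ≤ V₁),
        hcomp, hc, res_res, res_smul, res_res] at h2
      exact h2.symm
    let πS : Γ(X, S₁) := σ.app V₁ (resR h₁le π)
    have heq : πS ^ n = πS ^ i * (σ.app V₁ ũ * c) := by
      haveI : IsIntegral S₁.toScheme := isIntegral_of_isOpenImmersion S₁.ι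
      refine InvUfdLib.resR_injective_of_integral le_rfl hS
        (⟨hσV₁, show p (σ η) ∈ U from (hpσ η).symm ▸ hηU⟩ : η ∈ S₂) ?_
      have hnat : ∀ b : Γ(Z, V₁), resR hS (σ.app V₁ b) = σ.app O₁ (resR inf_le_left b) := fun b =>
        (ConcreteCategory.congr_hom (σ.naturality (homOfLE (inf_le_left : O₁ ≤ V₁)).op) b).symm
      have h3 := congrArg (σ.app O₁) hrel
      rw [map_mul, map_mul, map_pow, map_pow] at h3
      rw [map_mul, map_mul, map_pow, map_pow, hnat, hnat, resR_resR, ← mul_assoc, ← h3, mul_assoc, hσf, mul_one]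
    have hg1 : X.presheaf.germ S₁ x hx₁ πS = πx := by
      have hle : S₁ ⊓ W ≤ S₁ := inf_le_left
      have h4 : ∀ {φ : X ⟶ X} (_ : φ = 𝟙 X) (T : X.Opens) (h : T ≤ φ ⁻¹ᵁ W) (hT : T ≤ W),
          φ.appLE W T h πW = resR hT πW := by
        rintro _ rfl T h hT
        simp only [Scheme.Hom.appLE, Scheme.Hom.id_app]
        rfl
      have hT : S₁ ≤ (σ ≫ p) ⁻¹ᵁ W := fun y hy => hVW (h₁le hy)
      have hTW : S₁ ≤ W := fun y hy => by
        have := hT hy
        rwa [hσ] at this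
      have h5 : πS = (σ ≫ p).appLE W S₁ hT πW := by
        rw [Scheme.Hom.comp_appLE, CommRingCat.comp_apply]
        show σ.app V₁ (resR h₁le (resR hVW (p.app W πW))) = σ.appLE (p ⁻¹ᵁ W) S₁ hT (p.app W πW)
        rw [resR_resR]
        exact (ConcreteCategory.congr_hom (Scheme.Hom.map_appLE σ (U := V₁) (U' := p ⁻¹ᵁ W) (V := S₁) le_rfl
          (homOfLE (h₁le.trans hVW)).op) _).trans (by rfl) |>.trans rfl |> fun h => by
            rw [← Scheme.Hom.app_eq_appLE] at h
            exact h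
      rw [h5, h4 hσ S₁ hT hTW, ← hπW]
      exact X.presheaf.germ_res_apply (homOfLE hTW) x hx₁ πW
    have hgu : IsUnit (X.presheaf.germ S₁ x hx₁ (σ.app V₁ ũ * c)) := ((hũ.map (σ.app V₁).hom).mul hcu).map _
    obtain ⟨w, hw⟩ := hgu
    have := congrArg (X.presheaf.germ S₁ x hx₁) heq
    rw [map_pow, map_mul, map_pow, hg1, ← hw] at this
    exact eq_of_pow_mul_unit hπx 1 w (by rw [Units.val_one, mul_one]; exact this)
  subst hni
  have hfũ : resR hO₁O (f' : Γ(Z, O)) = resR (inf_le_left : O₁ ≤ V₁) ũ := by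
    refine mul_left_cancel₀ (pow_ne_zero n fun h0 => ?_) hrel
    refine hprime.ne_zero ((IsFractionRing.injective (Z.presheaf.stalk z) Z.functionField) ?_)
    have := hπ1 1
    rw [pow_one, pow_one, h0, map_zero] at this
    rw [← this, map_zero]
  refine ⟨V₁, (specializes_of_dim_le_one p ξ hd hxη z hpz).mem_open V₁.isOpen hzV₁, ũ • res L h₁le e,
    (he.res h₁le).isUnit_smul hũ, ?_⟩
  show res L (inf_le_left : O₁ ≤ V₁) _ = res L (inf_le_right : O₁ ≤ p ⁻¹ᵁ U) s
  have h6 := congrArg (res L hO₁O) hf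
  rw [res_res, res_smul, res_res, hfũ] at h6
  rw [h6, res_smul, res_res]

/-- An invertible module with compatible frames along a section and over a dense open is trivial. -/
theorem nonempty_iso_of_frames (hZ : Pi1.IsNormalScheme Z) (hX : Pi1.IsNormalScheme X) (hσ : σ ≫ p = 𝟙 X)
    (hU : (U : Set X).Nonempty) (hL : PicF.IsInvertible L) {s : Γ(L, p ⁻¹ᵁ U)} (hs : IsFrame s)
    {e₁ : Γ((Scheme.Modules.pullback σ).obj L, ⊤)} (he₁ : IsFrame e₁)
    (hcomp : pullElt σ s = res _ le_top e₁) : Nonempty (L ≅ Coh.structureModule Z) := by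
  classical
  let κ := {V : Z.Opens // ∃ e : Γ(L, V), IsFrame e ∧
    res L (inf_le_left : V ⊓ p ⁻¹ᵁ U ≤ V) e = res L (inf_le_right : V ⊓ p ⁻¹ᵁ U ≤ p ⁻¹ᵁ U) s}
  let Ω : Z.Opens := ⨆ V : κ, V.1
  choose e he hes using fun V : κ => V.2
  have hne : ∀ V : Z.Opens, (V : Set Z).Nonempty → (V ⊓ p ⁻¹ᵁ U : Set Z).Nonempty := fun V ⟨v, hv⟩ => by
    obtain ⟨y, hy⟩ := hU
    haveI : Surjective p := inferInstance
    obtain ⟨w, rfl⟩ := p.surjective y
    exact nonempty_preirreducible_inter V.isOpen (p ⁻¹ᵁ U).isOpen ⟨v, hv⟩ ⟨w, hy⟩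
  have hglue : ∀ V V' : κ, res L (inf_le_left : V.1 ⊓ V'.1 ≤ V.1) (e V) =
      res L (inf_le_right : V.1 ⊓ V'.1 ≤ V'.1) (e V') := by
    intro V V'
    obtain ⟨r, hr⟩ := (he V').exists_coord (inf_le_right : V.1 ⊓ V'.1 ≤ V'.1) (res L inf_le_left (e V))
    suffices r = 1 by rw [hr, this, one_smul]
    rcases (V.1 ⊓ V'.1 : Z.Opens).carrier.eq_empty_or_nonempty with h0 | h0
    · haveI : Subsingleton Γ(Z, V.1 ⊓ V'.1) := by
        rw [show V.1 ⊓ V'.1 = ⊥ from TopologicalSpace.Opens.ext h0]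
        infer_instance
      exact Subsingleton.elim _ _
    obtain ⟨v, hv⟩ := hne _ h0
    refine resR_injective (inf_le_left : (V.1 ⊓ V'.1) ⊓ p ⁻¹ᵁ U ≤ V.1 ⊓ V'.1) ⟨⟨v, hv⟩⟩ ?_
    refine (he V').coord_unique (inf_le_left.trans inf_le_right) ?_
    rw [map_one, one_smul]
    have h1 := congrArg (res L (inf_le_left : (V.1 ⊓ V'.1) ⊓ p ⁻¹ᵁ U ≤ V.1 ⊓ V'.1)) hr
    rw [res_res, res_smul, res_res] at h1
    rw [← h1]
    have h2 := congrArg (res L (le_inf (inf_le_left.trans inf_le_left) inf_le_right :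
      (V.1 ⊓ V'.1) ⊓ p ⁻¹ᵁ U ≤ V.1 ⊓ p ⁻¹ᵁ U)) (hes V)
    have h3 := congrArg (res L (le_inf (inf_le_left.trans inf_le_right) inf_le_right :
      (V.1 ⊓ V'.1) ⊓ p ⁻¹ᵁ U ≤ V'.1 ⊓ p ⁻¹ᵁ U)) (hes V')
    rw [res_res, res_res] at h2 h3
    exact h2.trans h3.symm
  obtain ⟨t, ht, -⟩ := existsUnique_glue (M := L) (V := Ω) (fun V : κ => V.1) (fun V => le_iSup (fun V : κ => V.1) V)
    (fun y hy => Opens.mem_iSup.1 hy) e hglue
  have htf : IsFrame t := InvUfdLib.isFrame_of_cover (fun V : κ => V.1) (fun V => le_iSup (fun V : κ => V.1) V)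
    (fun y hy => Opens.mem_iSup.1 hy) t fun V => ht V ▸ he V
  refine (S7885.result Z hZ Ω (fun y hy => ?_) L hL).2 (InvUfdLib.nonempty_iso_restrict_of_frame htf)
  by_contra hd
  rw [not_le] at hd
  refine hy (Opens.mem_iSup.2 ?_)
  by_cases hyU : y ∈ p ⁻¹ᵁ U
  · exact ⟨⟨p ⁻¹ᵁ U, s, hs, rfl⟩, hyU⟩
  obtain ⟨V, hyV, eV, heV, hc⟩ := exists_frame_codim_one p σ U hX hσ hU hL hs he₁ hcomp y hyU (Order.le_of_lt_succ hd)
  exact ⟨⟨V, eV, heV, hc⟩, hyV⟩

/-- An invertible module trivial along a section and over a dense open of the base is trivial. -/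
theorem nonempty_iso (hZ : Pi1.IsNormalScheme Z) (hX : Pi1.IsNormalScheme X) (hσ : σ ≫ p = 𝟙 X)
    (hU : (U : Set X).Nonempty) (hL : PicF.IsInvertible L)
    (hσL : Nonempty ((Scheme.Modules.pullback σ).obj L ≅ Coh.structureModule X))
    (hUL : ∃ s : Γ(L, p ⁻¹ᵁ U), IsFrame s) : Nonempty (L ≅ Coh.structureModule Z) := by
  obtain ⟨φ⟩ := hσL
  obtain ⟨e₁, he₁⟩ := PicAff79.exists_frame_top φ
  obtain ⟨s, hs⟩ := hUL
  have hσU : σ ⁻¹ᵁ p ⁻¹ᵁ U = U := by
    rw [← Scheme.Hom.comp_preimage, hσ]; rfl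
  obtain ⟨a, ha⟩ := he₁.exists_coord (le_top : σ ⁻¹ᵁ p ⁻¹ᵁ U ≤ ⊤) (pullElt σ s)
  have hau : IsUnit a := PicAff79.isUnit_of_frames (he₁.res le_top) (ha ▸ isFrame_pullElt σ hs)
  obtain ⟨a, rfl⟩ := hau
  let b : Γ(X, U) := resR hσU.ge (↑a⁻¹ : Γ(X, σ ⁻¹ᵁ p ⁻¹ᵁ U))
  have hb : σ.app (p ⁻¹ᵁ U) (p.app U b) = (↑a⁻¹ : Γ(X, σ ⁻¹ᵁ p ⁻¹ᵁ U)) := by
    have h4 : ∀ {φ : X ⟶ X} (_ : φ = 𝟙 X) (T : X.Opens) (h : T ≤ φ ⁻¹ᵁ U) (hT : T ≤ U),
        φ.appLE U T h b = resR hT b := by
      rintro _ rfl T h hT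
      simp only [Scheme.Hom.appLE, Scheme.Hom.id_app]
      rfl
    have h5 := h4 hσ (σ ⁻¹ᵁ p ⁻¹ᵁ U) le_rfl hσU.le
    erw [← Scheme.Hom.app_eq_appLE] at h5
    refine (show σ.app (p ⁻¹ᵁ U) (p.app U b) = (σ ≫ p).app U b from rfl).trans (h5.trans ?_)
    rw [resR_resR, resR_self]
  refine nonempty_iso_of_frames p σ U hZ hX hσ hU hL
    (hs.isUnit_smul ((a⁻¹.isUnit.map (resR hσU.ge)).map (p.app U).hom)) he₁ ?_
  rw [pullElt_smul, ha]
  erw [hb]
  rw [← mul_smul, Units.inv_mul, one_smul]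

end Extension

end Groth.Agent.PicProd26
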