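import Groth.Agent.H23.EquidimFibres
import Groth.Agent.NeronA.GenericFinite
import Groth.Agent.S2691
import Groth.Agent.S9821
import Groth.Agent.GrpSchLib.AffineHopf

/-!
# Products of normal varieties over an algebraically closed field
-/

set_option autoImplicit false
set_option linter.style.haveILetI false
set_option maxSynthPendingDepth 5
set_option backward.isDefEq.respectTransparency false

universe u

open CategoryTheory CategoryTheory.Limits AlgebraicGeometry MonoidalCategory CartesianMonoidalCategory TensorProduct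
open Groth.Agent.GrpSchLib.AffineHopf

namespace Groth.Agent.PicProd26

open Groth.Agent

variable {k : Type u} [Field k]

local notation "S" => Spec (CommRingCat.of k)

/-- An affine chart around a point. -/
theorem exists_chart (X : Over S) [LocallyOfFiniteType X.hom] [IsIntegral X.left] (x : X.left) :
    ∃ (A : Type u) (_ : CommRing A) (_ : Algebra k A) (j : sp k A ⟶ X), IsOpenImmersion j.left ∧ x ∈ Set.range j.left ∧
      IsDomain A ∧ Algebra.FiniteType k A ∧ (Pi1.IsNormalScheme X.left → IsIntegrallyClosed A) := by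
  obtain ⟨_, ⟨U, hU, rfl⟩, hxU, -⟩ :=
    X.left.isBasis_affineOpens.exists_subset_of_mem_open (Set.mem_univ x) isOpen_univ
  haveI : Nonempty U := ⟨⟨x, hxU⟩⟩
  let φ : CommRingCat.of k ⟶ Γ(X.left, U) := Spec.preimage (hU.fromSpec ≫ X.hom)
  letI : Algebra k Γ(X.left, U) := φ.hom.toAlgebra
  have hφ : Spec.map (CommRingCat.ofHom (algebraMap k Γ(X.left, U))) = hU.fromSpec ≫ X.hom := by
    rw [show CommRingCat.ofHom (algebraMap k Γ(X.left, U)) = φ from rfl, Spec.map_preimage]
  let j : sp k Γ(X.left, U) ⟶ X := Over.homMk hU.fromSpec hφ.symm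
  haveI hj : IsOpenImmersion j.left := inferInstanceAs (IsOpenImmersion hU.fromSpec)
  refine ⟨Γ(X.left, U), inferInstance, inferInstance, j, hj, ?_, inferInstance, ?_,
    fun h => (S9821.result X.left).1 h U hU⟩
  · show x ∈ Set.range hU.fromSpec
    rw [hU.range_fromSpec]; exact hxU
  · have : LocallyOfFiniteType (Spec.map (CommRingCat.ofHom (algebraMap k Γ(X.left, U)))) := by
      rw [hφ]; infer_instance
    exact RingHom.finiteType_algebraMap.mp ((HasRingHomProperty.Spec_iff (P := @LocallyOfFiniteType)).mp this)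

/-- The product of two affine schemes over the base. -/
noncomputable def prodIso (A C : Type u) [CommRing A] [CommRing C] [Algebra k A] [Algebra k C] :
    Spec (CommRingCat.of (A ⊗[k] C)) ≅ (sp k A ⊗ sp k C).left :=
  (pullbackSpecIso k A C).symm

theorem prodIso_fst (A C : Type u) [CommRing A] [CommRing C] [Algebra k A] [Algebra k C] :
    (prodIso (k := k) A C).hom ≫ (fst (sp k A) (sp k C)).left =
      Spec.map (CommRingCat.ofHom (Algebra.TensorProduct.includeLeftRingHom : A →+* A ⊗[k] C)) :=
  pullbackSpecIso_inv_fst k A C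

theorem prodIso_snd (A C : Type u) [CommRing A] [CommRing C] [Algebra k A] [Algebra k C] :
    (prodIso (k := k) A C).hom ≫ (snd (sp k A) (sp k C)).left =
      Spec.map (CommRingCat.ofHom ((Algebra.TensorProduct.includeRight : C →ₐ[k] A ⊗[k] C).toRingHom)) :=
  pullbackSpecIso_inv_snd k A C

theorem isPullback_whiskerLeft (W : Over S) {Y Y' : Over S} (j : Y' ⟶ Y) :
    IsPullback (W ◁ j).left (snd W Y').left (snd W Y).left j.left := by
  have h : IsPullback (W ◁ j) (snd W Y') (snd W Y) j := by
    refine ⟨⟨whiskerLeft_snd W j⟩, ⟨PullbackCone.IsLimit.mk _ (fun c => lift (c.fst ≫ fst W Y) c.snd)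
      (fun c => ?_) (fun c => lift_snd _ _) fun c m h₁ h₂ => ?_⟩⟩
    · ext <;> simp [c.condition]
    · ext <;> simp [← h₁, ← h₂]
  exact h.map (Over.forget S)

theorem isPullback_whiskerRight {W W' : Over S} (j : W' ⟶ W) (Y : Over S) :
    IsPullback (j ▷ Y).left (fst W' Y).left (fst W Y).left j.left := by
  have h : IsPullback (j ▷ Y) (fst W' Y) (fst W Y) j := by
    refine ⟨⟨whiskerRight_fst j Y⟩, ⟨PullbackCone.IsLimit.mk _ (fun c => lift c.snd (c.fst ≫ snd W Y))
      (fun c => ?_) (fun c => lift_fst _ _) fun c m h₁ h₂ => ?_⟩⟩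
    · ext <;> simp [c.condition]
    · ext <;> simp [← h₁, ← h₂]
  exact h.map (Over.forget S)

instance isOpenImmersion_whiskerLeft (W : Over S) {Y Y' : Over S} (j : Y' ⟶ Y) [IsOpenImmersion j.left] :
    IsOpenImmersion (W ◁ j).left :=
  MorphismProperty.of_isPullback (isPullback_whiskerLeft W j).flip inferInstance

instance isOpenImmersion_whiskerRight {W W' : Over S} (j : W' ⟶ W) (Y : Over S) [IsOpenImmersion j.left] :
    IsOpenImmersion (j ▷ Y).left :=
  MorphismProperty.of_isPullback (isPullback_whiskerRight j Y).flip inferInstance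

theorem opensRange_whiskerLeft (W : Over S) {Y Y' : Over S} (j : Y' ⟶ Y) [IsOpenImmersion j.left] :
    (W ◁ j).left.opensRange = (snd W Y).left ⁻¹ᵁ j.left.opensRange := by
  refine TopologicalSpace.Opens.ext (Set.ext fun z => ⟨?_, fun hz => ?_⟩)
  · rintro ⟨w, rfl⟩
    exact ⟨(snd W Y').left w, by
      rw [← Scheme.Hom.comp_apply, ← (isPullback_whiskerLeft W j).w, Scheme.Hom.comp_apply]⟩
  · obtain ⟨y, hy⟩ := hz
    obtain ⟨w, hw, -⟩ := Scheme.exists_preimage_of_isPullback (isPullback_whiskerLeft W j) z y hy.symm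
    exact ⟨w, hw⟩

theorem opensRange_whiskerRight {W W' : Over S} (j : W' ⟶ W) (Y : Over S) [IsOpenImmersion j.left] :
    (j ▷ Y).left.opensRange = (fst W Y).left ⁻¹ᵁ j.left.opensRange := by
  refine TopologicalSpace.Opens.ext (Set.ext fun z => ⟨?_, fun hz => ?_⟩)
  · rintro ⟨w, rfl⟩
    exact ⟨(fst W' Y).left w, by
      rw [← Scheme.Hom.comp_apply, ← (isPullback_whiskerRight j Y).w, Scheme.Hom.comp_apply]⟩
  · obtain ⟨y, hy⟩ := hz
    obtain ⟨w, hw, -⟩ := Scheme.exists_preimage_of_isPullback (isPullback_whiskerRight j Y) z y hy.symm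
    exact ⟨w, hw⟩

/-- Normality is local. -/
theorem isNormal_stalk_of_openImmersion {Z W : Scheme.{u}} (φ : W ⟶ Z) [IsOpenImmersion φ]
    (hW : Pi1.IsNormalScheme W) (w : W) :
    IsDomain (Z.presheaf.stalk (φ w)) ∧ IsIntegrallyClosed (Z.presheaf.stalk (φ w)) := by
  haveI := (hW w).1
  haveI := (hW w).2
  exact ⟨(asIso (φ.stalkMap w)).commRingCatIsoToRingEquiv.toMulEquiv.isDomain,
    IsIntegrallyClosed.of_equiv (asIso (φ.stalkMap w)).commRingCatIsoToRingEquiv.symm⟩

variable [IsAlgClosed k]

theorem isGeometricallyReduced_of_isAlgClosed (A : Type u) [CommRing A] [IsReduced A] [Algebra k A] :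
    Algebra.IsGeometricallyReduced k A := by
  rw [Algebra.isGeometricallyReduced_field_iff]
  let e : k ≃ₐ[k] AlgebraicClosure k := AlgEquiv.ofBijective (Algebra.ofId k _)
    ⟨(algebraMap k (AlgebraicClosure k)).injective, IsAlgClosed.algebraMap_bijective_of_isIntegral.2⟩
  exact isReduced_of_injective ((Algebra.TensorProduct.congr e.symm AlgEquiv.refl).trans (Algebra.TensorProduct.lid k A))
    (AlgEquiv.injective _)

variable (X Y : Over (Spec (CommRingCat.of k))) [IsIntegral X.left] [IsIntegral Y.left] [LocallyOfFiniteType X.hom] [LocallyOfFiniteType Y.hom]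

/-- The product of two varieties is integral. -/
theorem isIntegral_prod : IsIntegral (X ⊗ Y).left := by
  haveI : GeometricallyIntegral X.hom := H23.EquidimFibres.geometricallyIntegral_of_isAlgClosed
  haveI : IsLocallyNoetherian Y.left := LocallyOfFiniteType.isLocallyNoetherian Y.hom
  exact inferInstanceAs (IsIntegral (pullback X.hom Y.hom))

/-- The product of two normal varieties is normal. -/
theorem isNormalScheme_prod (hX : Pi1.IsNormalScheme X.left) (hY : Pi1.IsNormalScheme Y.left) :
    Pi1.IsNormalScheme (X ⊗ Y).left := by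
  intro z
  obtain ⟨A, _, _, j, hj, hxj, _, _, hA⟩ := exists_chart X ((fst X Y).left z)
  obtain ⟨C, _, _, i, hi, hyi, _, _, hC⟩ := exists_chart Y ((snd X Y).left z)
  haveI := hA hX
  haveI := hC hY
  haveI := hj; haveI := hi
  haveI : Algebra.IsGeometricallyReduced k (FractionRing A) := isGeometricallyReduced_of_isAlgClosed _
  haveI : Algebra.IsGeometricallyReduced k (FractionRing C) := isGeometricallyReduced_of_isAlgClosed _
  have hAC : Pi1.IsNormalScheme (Spec (CommRingCat.of (A ⊗[k] C))) :=
    NeronA.GenericFinite.isNormalScheme_spec _ (S2691.result k A C)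
  obtain ⟨y, hy⟩ := hyi
  obtain ⟨z₁, hz₁, -⟩ := Scheme.exists_preimage_of_isPullback (isPullback_whiskerLeft X i) z y hy.symm
  obtain ⟨a, ha⟩ := hxj
  obtain ⟨z₂, hz₂, -⟩ := Scheme.exists_preimage_of_isPullback (isPullback_whiskerRight j (sp k C)) z₁ a (by
    rw [ha, ← hz₁, ← Scheme.Hom.comp_apply, ← Over.comp_left, whiskerLeft_fst])
  let φ := (prodIso (k := k) A C).hom ≫ (j ▷ sp k C).left ≫ (X ◁ i).left
  have : φ ((prodIso (k := k) A C).inv z₂) = z := by
    simp only [φ, Scheme.Hom.comp_apply]
    rw [← Scheme.Hom.comp_apply (prodIso (k := k) A C).inv, Iso.inv_hom_id]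
    exact (congrArg _ hz₂).trans hz₁
  rw [← this]
  exact isNormal_stalk_of_openImmersion φ hAC _

end Groth.Agent.PicProd26
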