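import Groth.Agent.PicProd26.Extend
import Groth.Agent.PicProd26.Generic
import Groth.Agent.PicProd26.Normal
import Groth.Agent.ComodLib.Orbits
import Groth.Agent.H23.PicMul
import Mathlib.AlgebraicGeometry.AffineSpace

/-!
# The Picard group of a product with a rational variety
-/

set_option autoImplicit false
set_option linter.style.haveILetI false
set_option maxSynthPendingDepth 5
set_option backward.isDefEq.respectTransparency false

universe u

open CategoryTheory CategoryTheory.Limits AlgebraicGeometry MonoidalCategory CartesianMonoidalCategory TensorProduct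
open Groth.Agent.GrpSchLib.AffineHopf

namespace Groth.Agent.PicProd26

open Groth.Agent Groth.Agent.H23.TrivBasic Groth.Agent.InvX

variable {k : Type u} [Field k]

local notation "S" => Spec (CommRingCat.of k)

/-- A variety containing a basic open subset of affine space as an open subscheme. -/
def HasChart (X : Over S) : Prop :=
  ∃ (σ : Type u) (_ : Finite σ) (h : MvPolynomial σ k) (j : sp k (Localization.Away h) ⟶ X),
    h ≠ 0 ∧ IsOpenImmersion j.left

/-- A rational variety has such a chart. -/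
theorem hasChart_of_rational (X : Over S) (U : X.left.Opens) (n : ℕ)
    (V : (𝔸(ULift.{u} (Fin n); Spec (CommRingCat.of k))).Opens) (e : (U : Scheme.{u}) ≅ (V : Scheme.{u}))
    (hU : (U : Set X.left).Nonempty)
    (he : e.hom ≫ V.ι ≫ (𝔸(ULift.{u} (Fin n); Spec (CommRingCat.of k)) ↘ Spec (CommRingCat.of k)) = U.ι ≫ X.hom) :
    HasChart X := by
  let σ := ULift.{u} (Fin n)
  let iA := AffineSpace.SpecIso σ (CommRingCat.of k)
  obtain ⟨x, hx⟩ := hU
  obtain ⟨_, ⟨_, ⟨h, rfl⟩, rfl⟩, hvh, hle⟩ := PrimeSpectrum.isBasis_basic_opens.exists_subset_of_mem_open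
    (show iA.hom ((e.hom ≫ V.ι) ⟨x, hx⟩) ∈ ((iA.inv ⁻¹ᵁ V) : (Spec _).Opens).1 from by
      show iA.inv (iA.hom _) ∈ V
      rw [← Scheme.Hom.comp_apply, Iso.hom_inv_id]
      exact (e.hom ⟨x, hx⟩).2) (iA.inv ⁻¹ᵁ V).isOpen
  have h0 : h ≠ 0 := by
    rintro rfl
    exact hvh (zero_mem _)
  let B := Localization.Away h
  let ψ : Spec (CommRingCat.of B) ⟶ 𝔸(σ; Spec (CommRingCat.of k)) :=
    Spec.map (CommRingCat.ofHom (algebraMap (MvPolynomial σ k) B)) ≫ iA.inv
  haveI : IsOpenImmersion (Spec.map (CommRingCat.ofHom (algebraMap (MvPolynomial σ k) B))) :=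
    IsOpenImmersion.of_isLocalization h
  haveI : IsOpenImmersion ψ := inferInstanceAs (IsOpenImmersion (_ ≫ iA.inv))
  have hr : Set.range ψ ⊆ Set.range V.ι := by
    rintro _ ⟨y, rfl⟩
    rw [Scheme.Opens.range_ι]
    have : Spec.map (CommRingCat.ofHom (algebraMap (MvPolynomial σ k) B)) y ∈
        (PrimeSpectrum.basicOpen h : TopologicalSpace.Opens (PrimeSpectrum (MvPolynomial σ k))) := fun hm =>
      y.2.ne_top (Ideal.eq_top_of_isUnit_mem _ hm (IsLocalization.Away.algebraMap_isUnit h))
    exact hle this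
  let l := IsOpenImmersion.lift V.ι ψ hr
  haveI : IsOpenImmersion l := by
    haveI : IsOpenImmersion (l ≫ V.ι) := by rw [IsOpenImmersion.lift_fac]; infer_instance
    exact IsOpenImmersion.of_comp l V.ι
  have hover : (l ≫ e.inv ≫ U.ι) ≫ X.hom = (sp k B).hom := by
    rw [Category.assoc, Category.assoc, ← he, e.inv_hom_id_assoc, ← Category.assoc, IsOpenImmersion.lift_fac,
      Category.assoc, show iA.inv ≫ (𝔸(σ; Spec (CommRingCat.of k)) ↘ Spec (CommRingCat.of k)) =
        Spec.map (CommRingCat.ofHom (MvPolynomial.C)) from AffineSpace.SpecIso_inv_over .., ← Spec.map_comp]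
    rfl
  exact ⟨σ, inferInstance, h, Over.homMk (l ≫ e.inv ≫ U.ι) hover, h0,
    inferInstanceAs (IsOpenImmersion (l ≫ e.inv ≫ U.ι))⟩

theorem triv_iff_cls_eq_one {Z : Scheme.{u}} [PicGrp.Law Z] {L : Z.Modules} (hL : PicF.IsInvertible L) :
    PicGrp.cls L hL = 1 ↔ Triv L :=
  PicGrp.cls_eq_one_iff hL

/-- A frame on the open image gives triviality of the inverse image. -/
theorem triv_pullback_of_frame {Z W : Scheme.{u}} {L : Z.Modules} (φ : W ⟶ Z) {O : Z.Opens} {e : Γ(L, O)}
    (he : IsFrame e) (hr : ∀ w, φ w ∈ O) : Triv ((Scheme.Modules.pullback φ).obj L) := by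
  obtain ⟨a⟩ := InvUfdLib.nonempty_iso_restrict_of_frame he
  have h : Triv ((Scheme.Modules.pullback O.ι).obj L) :=
    ⟨((Scheme.Modules.restrictFunctorIsoPullback O.ι).app L).symm ≪≫ a⟩
  exact H23.SeesawGlobal.triv_of_factor (IsOpenImmersion.lift O.ι φ (by
    rintro _ ⟨w, rfl⟩; rw [Scheme.Opens.range_ι]; exact hr w)) (IsOpenImmersion.lift_fac _ _ _) h

set_option maxHeartbeats 1600000 in
/-- Over a dense open of the second factor the module is trivial. -/
theorem exists_open_triv (Y : Over (Spec (CommRingCat.of k))) [IsIntegral Y.left] [LocallyOfFiniteType Y.hom]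
    {σ : Type u} (h : MvPolynomial σ k) (hh : h ≠ 0) (L₁ : (sp k (Localization.Away h) ⊗ Y).left.Modules)
    (hL₁ : PicF.IsInvertible L₁) :
    ∃ (C' : Type u) (_ : CommRing C') (_ : Algebra k C') (i' : sp k C' ⟶ Y), Nontrivial C' ∧ IsOpenImmersion i'.left ∧
      Triv ((Scheme.Modules.pullback (sp k (Localization.Away h) ◁ i').left).obj L₁) := by
  let B := Localization.Away h
  let Z₁ := sp k B ⊗ Y
  -- a dense open of the second factor
  obtain ⟨y₁⟩ : Nonempty Y.left := inferInstance
  obtain ⟨C, _, _, i, hi, -, _, _, -⟩ := exists_chart Y y₁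
  haveI := hi
  let M := (Scheme.Modules.pullback ((pullbackSymmetry _ _).hom ≫ (sp k B ◁ i).left :
    (sp k C ⊗ sp k B).left ⟶ Z₁.left)).obj L₁
  let M' := (Scheme.Modules.pullback (prodIso (k := k) C B).hom).obj M
  obtain ⟨c, hc0, e, he⟩ := exists_generic_triv h hh C M'
    (PicLoc.isInvertible_pullback _ (PicLoc.isInvertible_pullback _ hL₁))
  let C' := Localization.Away c
  let i' : sp k C' ⟶ Y := spMap (IsScalarTower.toAlgHom k C C') ≫ i
  haveI : IsOpenImmersion i'.left := by
    haveI : IsOpenImmersion (spMap (IsScalarTower.toAlgHom k C C')).left :=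
      IsOpenImmersion.of_isLocalization c
    exact inferInstanceAs (IsOpenImmersion ((spMap (IsScalarTower.toAlgHom k C C')).left ≫ i.left))
  have hgen : Triv ((Scheme.Modules.pullback (sp k B ◁ i').left).obj L₁) := by
    let ν : C ⊗[k] B →ₐ[k] C' ⊗[k] B := Algebra.TensorProduct.map (IsScalarTower.toAlgHom k C C') (AlgHom.id k B)
    let φ := Spec.map (CommRingCat.ofHom ν.toRingHom)
    have hφ : Triv ((Scheme.Modules.pullback φ).obj M') := triv_pullback_of_frame φ he fun w hm =>
      w.2.ne_top (Ideal.eq_top_of_isUnit_mem _ hm (by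
        show IsUnit (ν (c ⊗ₜ[k] (1 : B)))
        simp only [ν, Algebra.TensorProduct.map_tmul, map_one]
        exact (IsLocalization.Away.algebraMap_isUnit c : IsUnit (algebraMap C C' c)).map
          (Algebra.TensorProduct.includeLeft : C' →ₐ[k] C' ⊗[k] B)))
    let Φ : Spec (CommRingCat.of (C' ⊗[k] B)) ⟶ (sp k B ⊗ sp k C').left :=
      (prodIso (k := k) C' B).hom ≫ (pullbackSymmetry _ _).hom
    haveI : IsIso Φ := inferInstanceAs (IsIso ((prodIso (k := k) C' B).hom ≫ (pullbackSymmetry _ _).hom))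
    refine triv_of_isIso Φ ((triv_comp_iff Φ (sp k B ◁ i').left).2 ?_)
    have hcomp : Φ ≫ (sp k B ◁ i').left =
        φ ≫ ((prodIso (k := k) C B).hom ≫ ((pullbackSymmetry _ _).hom ≫ (sp k B ◁ i).left)) := by
      have h1 : Φ ≫ (sp k B ◁ spMap (IsScalarTower.toAlgHom k C C')).left =
          φ ≫ (prodIso (k := k) C B).hom ≫ (pullbackSymmetry _ _).hom := by
        refine pullback.hom_ext ?_ ?_
        · have e1 : (sp k B ◁ spMap (IsScalarTower.toAlgHom k C C')).left ≫ (fst (sp k B) (sp k C)).left =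
              (fst (sp k B) (sp k C')).left := by
            rw [← Over.comp_left, whiskerLeft_fst]
          show (Φ ≫ _) ≫ (fst (sp k B) (sp k C)).left = _
          rw [Category.assoc, e1]
          show ((prodIso (k := k) C' B).hom ≫ (pullbackSymmetry _ _).hom) ≫ pullback.fst _ _ =
            (φ ≫ (prodIso (k := k) C B).hom ≫ (pullbackSymmetry _ _).hom) ≫ pullback.fst _ _
          simp only [Category.assoc, pullbackSymmetry_hom_comp_fst]
          erw [prodIso_snd, prodIso_snd]
          rw [← Spec.map_comp, ← CommRingCat.ofHom_comp]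
          congr 2
          refine RingHom.ext fun b => ?_
          simp [ν]
        · have e1 : (sp k B ◁ spMap (IsScalarTower.toAlgHom k C C')).left ≫ (snd (sp k B) (sp k C)).left =
              (snd (sp k B) (sp k C')).left ≫ (spMap (IsScalarTower.toAlgHom k C C')).left := by
            rw [← Over.comp_left, whiskerLeft_snd, Over.comp_left]
          show (Φ ≫ _) ≫ (snd (sp k B) (sp k C)).left = _
          rw [Category.assoc, e1]
          show ((prodIso (k := k) C' B).hom ≫ (pullbackSymmetry _ _).hom) ≫ pullback.snd _ _ ≫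
              Spec.map _ = (φ ≫ (prodIso (k := k) C B).hom ≫ (pullbackSymmetry _ _).hom) ≫ pullback.snd _ _
          simp only [Category.assoc, pullbackSymmetry_hom_comp_snd_assoc, pullbackSymmetry_hom_comp_snd]
          erw [prodIso_fst, ← Category.assoc, prodIso_fst]
          rw [← Spec.map_comp, ← Spec.map_comp, ← CommRingCat.ofHom_comp, ← CommRingCat.ofHom_comp]
          congr 2
      have h2 : (sp k B ◁ i').left = (sp k B ◁ spMap (IsScalarTower.toAlgHom k C C')).left ≫ (sp k B ◁ i).left := by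
        rw [← Over.comp_left, ← MonoidalCategory.whiskerLeft_comp]
      rw [h2, ← Category.assoc, h1, Category.assoc, Category.assoc]
    exact (triv_congr hcomp).2 ((triv_comp_iff φ _).1
      (hφ.of_iso ((Scheme.Modules.pullback φ).mapIso ((Scheme.Modules.pullbackComp _ _).app L₁))))
  haveI : Nontrivial C' := (IsLocalization.isDomain_of_le_nonZeroDivisors C'
    (Submonoid.powers_le.2 (mem_nonZeroDivisors_of_ne_zero hc0))).toNontrivial
  exact ⟨C', inferInstance, inferInstance, i', inferInstance, inferInstance, hgen⟩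

variable [IsAlgClosed k]

/-- The points of the base. -/
theorem triv_point {L : (𝟙_ (Over S)).left.Modules} (hL : PicF.IsInvertible L) : Triv L :=
  triv_of_ufd (CommRingCat.of k) L hL

/-- Triviality along the second projection. -/
theorem triv_snd (W Y : Over (Spec (CommRingCat.of k))) [IsIntegral W.left] [LocallyOfFiniteType W.hom]
    [IsIntegral Y.left] [LocallyOfFiniteType Y.hom] (hW : Pi1.IsNormalScheme W.left) (hY : Pi1.IsNormalScheme Y.left)
    (pt : 𝟙_ (Over (Spec (CommRingCat.of k))) ⟶ W) {Y' : Over (Spec (CommRingCat.of k))} (i : Y' ⟶ Y)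
    [IsOpenImmersion i.left] [Nonempty Y'.left] (L : (W ⊗ Y).left.Modules) (hL : PicF.IsInvertible L)
    (h0 : Triv ((Scheme.Modules.pullback (lift (toUnit Y ≫ pt) (𝟙 Y)).left).obj L))
    (h1 : Triv ((Scheme.Modules.pullback (W ◁ i).left).obj L)) : Triv L := by
  haveI : IsIntegral (W ⊗ Y).left := isIntegral_prod W Y
  haveI : IsLocallyNoetherian Y.left := LocallyOfFiniteType.isLocallyNoetherian Y.hom
  haveI : GeometricallyIntegral W.hom := H23.EquidimFibres.geometricallyIntegral_of_isAlgClosed
  haveI : Flat (snd W Y).left := inferInstanceAs (Flat (pullback.snd W.hom Y.hom))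
  haveI : GeometricallyIntegral (snd W Y).left :=
    inferInstanceAs (GeometricallyIntegral (pullback.snd W.hom Y.hom))
  haveI : LocallyOfFiniteType (snd W Y).left :=
    inferInstanceAs (LocallyOfFiniteType (pullback.snd W.hom Y.hom))
  haveI : IsLocallyNoetherian (W ⊗ Y).left := LocallyOfFiniteType.isLocallyNoetherian (snd W Y).left
  have hs : lift (toUnit Y ≫ pt) (𝟙 Y) ≫ snd W Y = 𝟙 Y := lift_snd _ _
  refine nonempty_iso (snd W Y).left (lift (toUnit Y ≫ pt) (𝟙 Y)).left i.left.opensRange
    (isNormalScheme_prod W Y hW hY) hY (by rw [← Over.comp_left, hs]; rfl) ?_ hL h0 ?_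
  · obtain ⟨w⟩ := (inferInstance : Nonempty Y'.left)
    exact ⟨i.left w, w, rfl⟩
  · rw [← opensRange_whiskerLeft]
    exact H23.SeesawGlobal.exists_frame_of_triv (W ◁ i).left h1

variable (X Y : Over (Spec (CommRingCat.of k))) [IsIntegral X.left] [LocallyOfFiniteType X.hom] [IsIntegral Y.left] [LocallyOfFiniteType Y.hom]

set_option maxHeartbeats 800000 in
/-- A module trivial along two axes through a point of the chart is trivial. -/
theorem exists_point_triv (hX : Pi1.IsNormalScheme X.left) (hY : Pi1.IsNormalScheme Y.left) (hc : HasChart X) :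
    ∃ x0 : 𝟙_ (Over S) ⟶ X, ∀ (y0 : 𝟙_ (Over S) ⟶ Y) (L : (X ⊗ Y).left.Modules), PicF.IsInvertible L →
      Triv ((Scheme.Modules.pullback (lift (toUnit Y ≫ x0) (𝟙 Y)).left).obj L) →
      Triv ((Scheme.Modules.pullback (lift (𝟙 X) (toUnit X ≫ y0)).left).obj L) → Triv L := by
  classical
  obtain ⟨σ, _, h, j, hh, hj⟩ := hc
  haveI := hj
  let B := Localization.Away h
  have hle : Submonoid.powers h ≤ nonZeroDivisors (MvPolynomial σ k) :=
    Submonoid.powers_le.2 (mem_nonZeroDivisors_of_ne_zero hh)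
  haveI : IsDomain B := IsLocalization.isDomain_of_le_nonZeroDivisors B hle
  haveI : UniqueFactorizationMonoid B := ufd_of_isLocalization _ _ hle B
  haveI : Algebra.FiniteType (MvPolynomial σ k) B := IsLocalization.finiteType_of_monoid_fg (Submonoid.powers h) _
  haveI : Algebra.FiniteType k B := Algebra.FiniteType.trans (inferInstance : Algebra.FiniteType k (MvPolynomial σ k)) ‹_›
  obtain ⟨χ, -, -⟩ : ∃ χ : B →ₐ[k] k, True ∧ True := by
    obtain ⟨m, hm⟩ := Ideal.exists_maximal B
    haveI : Algebra.FiniteType k (B ⧸ m) := Algebra.FiniteType.of_surjective (Ideal.Quotient.mkₐ k m) Ideal.Quotient.mk_surjective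
    letI : Field (B ⧸ m) := Ideal.Quotient.field m
    haveI : Module.Finite k (B ⧸ m) := finite_of_finite_type_of_isJacobsonRing k (B ⧸ m)
    exact ⟨((AlgEquiv.ofBijective (Algebra.ofId k (B ⧸ m)) ⟨(algebraMap k (B ⧸ m)).injective,
      IsAlgClosed.algebraMap_bijective_of_isIntegral.2⟩).symm : B ⧸ m →ₐ[k] k).comp (Ideal.Quotient.mkₐ k m), trivial, trivial⟩
  let pt : 𝟙_ (Over S) ⟶ sp k B := Over.homMk (Spec.map (CommRingCat.ofHom χ.toRingHom)) (by
    show Spec.map _ ≫ Spec.map _ = 𝟙 _
    rw [← Spec.map_comp, ← CommRingCat.ofHom_comp]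
    exact (congrArg (fun f => Spec.map (CommRingCat.ofHom f)) χ.comp_algebraMap).trans (Spec.map_id _))
  refine ⟨pt ≫ j, fun y0 L hL hσY hσX => ?_⟩
  haveI : LocallyOfFiniteType (sp k B).hom :=
    (HasRingHomProperty.Spec_iff (P := @LocallyOfFiniteType)).mpr (RingHom.finiteType_algebraMap.mpr inferInstance)
  haveI : IsIntegral (sp k B).left := inferInstanceAs (IsIntegral (Spec (CommRingCat.of B)))
  have hBn : Pi1.IsNormalScheme (sp k B).left := by
    haveI : IsIntegral (Spec (CommRingCat.of B)) := inferInstance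
    refine (S9821.result (Spec (CommRingCat.of B))).2 fun U _ hU => ?_
    haveI : IsIntegrallyClosed B := inferInstance
    exact (S9821.result (Spec (CommRingCat.of B))).1
      (NeronA.GenericFinite.isNormalScheme_spec (CommRingCat.of B) fun q _ =>
        ⟨IsLocalization.isDomain_of_le_nonZeroDivisors _ q.primeCompl_le_nonZeroDivisors,
          isIntegrallyClosed_of_isLocalization _ q.primeCompl q.primeCompl_le_nonZeroDivisors⟩) U hU
  let Z₁ := sp k B ⊗ Y
  let L₁ := (Scheme.Modules.pullback (j ▷ Y).left).obj L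
  have hL₁ : PicF.IsInvertible L₁ := PicLoc.isInvertible_pullback _ hL
  obtain ⟨C', _, _, i', hC', hi', hgen⟩ := exists_open_triv Y h hh L₁ hL₁
  haveI := hC'; haveI := hi'
  haveI : IsLocallyNoetherian X.left := LocallyOfFiniteType.isLocallyNoetherian X.hom
  haveI : GeometricallyIntegral Y.hom := H23.EquidimFibres.geometricallyIntegral_of_isAlgClosed
  have hL₁t : Triv L₁ := by
    haveI : Nonempty (sp k C').left := inferInstanceAs (Nonempty (PrimeSpectrum C'))
    refine triv_snd (sp k B) Y hBn hY pt i' L₁ hL₁ ?_ hgen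
    refine (triv_comp_iff (lift (toUnit Y ≫ pt) (𝟙 Y)).left (j ▷ Y).left).2 ?_
    rwa [triv_congr (by rw [← Over.comp_left, lift_whiskerRight, Category.assoc] :
      (lift (toUnit Y ≫ pt) (𝟙 Y)).left ≫ (j ▷ Y).left = (lift (toUnit Y ≫ pt ≫ j) (𝟙 Y)).left)]
  haveI : GeometricallyIntegral X.hom := H23.EquidimFibres.geometricallyIntegral_of_isAlgClosed
  haveI : IsIntegral (X ⊗ Y).left := isIntegral_prod X Y
  haveI : Flat (fst X Y).left := inferInstanceAs (Flat (pullback.fst X.hom Y.hom))
  haveI : GeometricallyIntegral (fst X Y).left := inferInstanceAs (GeometricallyIntegral (pullback.fst X.hom Y.hom))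
  haveI : LocallyOfFiniteType (fst X Y).left := inferInstanceAs (LocallyOfFiniteType (pullback.fst X.hom Y.hom))
  haveI : IsLocallyNoetherian (X ⊗ Y).left := LocallyOfFiniteType.isLocallyNoetherian (fst X Y).left
  have hs : (lift (𝟙 X) (toUnit X ≫ y0)) ≫ fst X Y = 𝟙 X := lift_fst _ _
  refine nonempty_iso (fst X Y).left (lift (𝟙 X) (toUnit X ≫ y0)).left j.left.opensRange
    (isNormalScheme_prod X Y hX hY) hX (by rw [← Over.comp_left, hs]; rfl) ?_ hL hσX ?_
  · obtain ⟨w⟩ := (inferInstance : Nonempty (PrimeSpectrum B))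
    exact ⟨j.left w, w, rfl⟩
  · rw [← opensRange_whiskerRight]
    exact H23.SeesawGlobal.exists_frame_of_triv (j ▷ Y).left hL₁t

end Groth.Agent.PicProd26
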